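import Cfsg.Agent.Lib.GW.Part1
import Cfsg.Prelude.Def_Solvable

/-!
# Groups with a partition, II: the theorem of Baer, Kegel and Suzuki
-/

set_option autoImplicit false
set_option linter.unusedSectionVars false

namespace Cfsg.Lib.GW

open Subgroup Cfsg.Lib.Core Cfsg.Lib.BG1 Cfsg.Lib.Invol Function
open Cfsg.Lib.Amalg hiding le_cent_symm op_top
open Cfsg.Lib.Exc (EC ECT)
open Cfsg.Lib.Transfer (SylowIn sylowIn_top)
open Cfsg.Lib.Linear (PSL2 PGL2)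

variable {G : Type*} [Group G] [Finite G] {K L L' N : Subgroup G} {x y a b g : G} {p r n : ℕ}

theorem exists_pow_prime (h : p ∣ orderOf g) : ∃ k : ℕ, orderOf (g ^ k) = p :=
  ⟨_, orderOf_pow_orderOf_div (orderOf_pos g).ne' h⟩

theorem exists_pow_prime' (h : g ≠ 1) : ∃ p k : ℕ, p.Prime ∧ p ∣ orderOf g ∧ orderOf (g ^ k) = p :=
  let ⟨p, h1, h2⟩ := Nat.exists_prime_and_dvd (mt orderOf_eq_one_iff.1 h)
  let ⟨k, h3⟩ := exists_pow_prime h2
  ⟨p, k, h1, h2, h3⟩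

theorem eq_of_mem_pgroup (hp : p.Prime) (hr : r.Prime) (hK : IsPGroup p K) (hg : g ∈ K) (h : r ∣ orderOf g) : r = p :=
  let ⟨_, hk⟩ := pow_eq_one_of_mem hK hg
  (Nat.prime_dvd_prime_iff_eq hr hp).1 (hr.dvd_of_dvd_pow (h.trans (orderOf_dvd_of_pow_eq_one hk)))

theorem dvd_of_mem_pgroup (hp : p.Prime) (hK : IsPGroup p K) (hg : g ∈ K) (h : g ≠ 1) : p ∣ orderOf g :=
  let ⟨_, _, h1, h2, _⟩ := exists_pow_prime' h
  eq_of_mem_pgroup hp h1 hK hg h2 ▸ h2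

theorem exists_central_inf [Fact p.Prime] [K.Normal] (h : p ∣ Nat.card K) (T : Sylow p G) :
    ∃ y ∈ K, y ∈ T ∧ orderOf y = p ∧ ∀ x ∈ T, Commute x y := by
  obtain ⟨y, ⟨h1, h2⟩, h3, -⟩ := exists_central ((T.2.to_le inf_le_left).to_le inf_le_left)
    (inf_center_ne_bot T.2 (inf_le_left (b := K)) (fun _ hg => mem_norm_inf (le_normalizer hg) (le_normalizer_of_normal
      (mem_top _))) fun e => (Transfer.sylowIn_inf_normal T K).eq_bot_iff.1 e h)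
  exact ⟨y, h1.2, h1.1, h3, h2⟩

theorem exists_fixed (hp : p.Prime) [K.Normal] (h : p ∣ Nat.card K) (hx : orderOf x = p) :
    ∃ y ∈ K, orderOf y = p ∧ Commute x y := by
  have := Fact.mk hp
  obtain ⟨T, hT⟩ := (isPGroup_zpowers (k := 1) (p := p) (x := x) (by simp [← hx])).exists_le_sylow
  obtain ⟨y, h1, -, h2, h3⟩ := exists_central_inf h T
  exact ⟨y, h1, h2, h3 x (hT (mem_zpowers x))⟩

theorem frob_of_cent [hN : N.Normal] (h0 : N ≠ ⊥) (h1 : N ≠ ⊤) (h : ∀ y ∈ N, y ≠ 1 → 𝐂[y] ≤ N) :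
    ∃ H : Subgroup G, IsFrobeniusComplement H := by
  obtain ⟨H, hH⟩ := exists_right_complement'_of_coprime (Exc.coprime_index_of_cent h)
  have h2 : ∀ y ∈ N, y ∈ H → y = 1 := fun y a b => disjoint_def.1 hH.disjoint a b
  refine ⟨H, fun e => h1 (by simpa [e] using hH.sup_eq_top), fun e => h0 (by simpa [e] using hH.disjoint),
    fun g hg => eq_bot_iff.2 fun x hx => ?_⟩
  obtain ⟨m, hm, k, hk, rfl⟩ := mem_sup_of_normal_left.1 (hH.sup_eq_top ▸ mem_top g)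
  have h3 : m⁻¹ * x * m ∈ H := by
    simpa [mul_assoc] using mul_mem (mul_mem hk (mem_conj_smul.1 hx.2)) (inv_mem hk)
  have h4 := h2 (m⁻¹ * x * m * x⁻¹) (by simpa [mul_assoc] using mul_mem (inv_mem hm) (hN.conj_mem m hm x))
    (mul_mem h3 (inv_mem hx.1))
  rw [mul_inv_eq_one, mul_assoc, inv_mul_eq_iff_eq_mul] at h4
  exact h2 x (h m hm (fun e => hg (by simpa [e] using hk)) (mem_cent.2 h4)) hx.1

theorem frob_of_pgroup [N.Normal] (hp : p.Prime) (hN : IsPGroup p N) (h0 : N ≠ ⊥) (h1 : N ≠ ⊤)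
    (h : ∀ g, p ∣ orderOf g → g ∈ N) : ∃ H : Subgroup G, IsFrobeniusComplement H :=
  frob_of_cent h0 h1 fun y hy h2 g hg => by_contra fun e => by
    have h3 := dvd_of_mem_pgroup hp hN (pow_mem hy (orderOf g)) fun a => e (h g
      ((dvd_of_mem_pgroup hp hN hy h2).trans (orderOf_dvd_of_pow_eq_one a)))
    rw [← one_mul (y ^ _), ← pow_orderOf_eq_one g, ← (mem_cent.1 hg).mul_pow] at h3
    exact e ((Subgroup.mul_mem_cancel_right _ hy).1 (h _ (h3.trans (orderOf_pow_dvd _))))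

theorem mem_of_not_dvd {C M : Subgroup G} (hp : p.Prime) (hn : M ≤ 𝐍(C)) (h : ¬ p ∣ C.relIndex M) (hg : g ∈ M)
    {k : ℕ} (hk : g ^ p ^ k = 1) : g ∈ C :=
  Transfer.mem_of_pow_mem_of_coprime (((hp.coprime_iff_not_dvd.2 h).pow_left k).coprime_dvd_left
    (orderOf_dvd_of_pow_eq_one hk)) (Transfer.pow_relIndex_mem' hn hg)

/-- the conclusion of the theorem of Baer, Kegel and Suzuki -/
def PtConcl (G : Type*) [Group G] : Prop :=
  Nonempty (G ≃* Equiv.Perm (Fin 4)) ∨ (∃ p : ℕ, p.Prime ∧ closure {g : G | g ^ p ≠ 1} ≠ ⊤) ∨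
    (∃ H : Subgroup G, IsFrobeniusComplement H) ∨ IsPL2 G ∨ Lie.IsoSuzuki G

/-- a non-trivial partition invariant under conjugation -/
structure Pt (P : Subgroup G → Prop) : Prop where
  ex : ∀ g ≠ 1, ∃ L, P L ∧ g ∈ L
  eq : ∀ {L L' g}, P L → P L' → g ≠ 1 → g ∈ L → g ∈ L' → L = L'
  conj : ∀ g {L}, P L → P (cj g L)
  ne_top : ∀ {L}, P L → L ≠ ⊤
  ne_bot : ∀ {L}, P L → L ≠ ⊥

namespace Pt
variable {P : Subgroup G → Prop} (h : Pt P) (hL : P L)
include h hL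

theorem norm (hx : x ∈ L) (h1 : x ≠ 1) (hg : g * x * g⁻¹ ∈ L) : g ∈ 𝐍(L) :=
  cj_eq_self_iff.1 (h.eq (h.conj g hL) hL (by simpa using h1) (conj_mem_cj g hx) hg)

theorem norm' (hx : x ∈ L) (h1 : x ≠ 1) (hg : Commute g x) : g ∈ 𝐍(L) :=
  h.norm hL hx h1 (by rwa [hg.eq, mul_inv_cancel_right])

theorem pow_eq_one (hx : x ∉ L) (h1 : x ^ n ∈ L) : x ^ n = 1 := by_contra fun e => by
  obtain ⟨L', h2, h3⟩ := h.ex x fun e => hx (e ▸ one_mem L)
  exact hx (h.eq h2 hL e (pow_mem h3 n) h1 ▸ h3)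

theorem mul_pow_eq_one (hx : x ∉ L) (hn : x ∈ 𝐍(L)) (h1 : x ^ n ∈ L) (ha : a ∈ L) : (a * x) ^ n = 1 :=
  h.pow_eq_one hL (fun e => hx ((Subgroup.mul_mem_cancel_left _ ha).1 e))
    ((Subgroup.mul_mem_cancel_right _ (inv_mem h1)).1 (mul_pow_mul_inv_mem hn ha n))

theorem order_aux (ha : a ∈ L) (h1 : a ≠ 1) (hb : b ∉ L) (hc : Commute a b) (hp : p.Prime) (h2 : p ∣ orderOf b) :
    orderOf a = p := by
  obtain ⟨k, hk⟩ := exists_pow_prime h2
  have h3 : b ^ k ∉ L := fun e => ne_one_of_prime hp hk (h.pow_eq_one hL hb e)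
  have h4 := h.mul_pow_eq_one hL h3 (h.norm' hL ha h1 (hc.pow_right k).symm) (n := p) (by simp [← hk]) ha
  have := Fact.mk hp
  rw [(hc.pow_right k).mul_pow, ← hk, pow_orderOf_eq_one, mul_one, hk] at h4
  exact orderOf_eq_prime h4 h1

/-- commuting elements from different components have the same prime order -/
theorem order (ha : a ∈ L) (h1 : a ≠ 1) (hb : b ∉ L) (hc : Commute a b) : (orderOf a).Prime ∧ orderOf b = orderOf a := by
  have h2 : b ≠ 1 := fun e => hb (e ▸ one_mem L)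
  obtain ⟨p, -, h3, h4, -⟩ := exists_pow_prime' h2
  have h5 := h.order_aux hL ha h1 hb hc h3 h4
  obtain ⟨L', h6, h7⟩ := h.ex b h2
  exact ⟨h5 ▸ h3, h5 ▸ h.order_aux h6 h7 h2 (fun e => hb (h.eq h6 hL h1 e ha ▸ h7)) hc.symm h3 h5.symm.dvd⟩

theorem commute_of_inf [hN : N.Normal] (h0 : ∀ z ∈ N, z ∈ L → z = 1) (hy : y ∈ N) (hn : y ∈ 𝐍(L)) (hx : x ∈ L) :
    Commute x y := by
  have := h0 (y * x * y⁻¹ * x⁻¹) (by simpa [mul_assoc] using mul_mem hy (hN.conj_mem _ (inv_mem hy) x))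
    (mul_mem (conj_mem_norm hn hx) (inv_mem hx))
  rw [mul_inv_eq_one, mul_inv_eq_iff_eq_mul] at this
  exact this.symm

section A
variable [hn : L.Normal]

theorem order_of_dvd (hr : r.Prime) (h0 : r ∣ Nat.card L) (hx : x ∉ L) (h1 : r ∣ orderOf x) : orderOf x = r := by
  obtain ⟨k, hk⟩ := exists_pow_prime h1
  obtain ⟨y, h2, h3, h4⟩ := exists_fixed hr h0 hk
  have h5 : x ≠ 1 := fun e => hx (e ▸ one_mem L)
  obtain ⟨L', h6, h7⟩ := h.ex x h5
  have h8 : ∀ z ∈ L, z ∈ L' → z = 1 := fun z a b => by_contra fun e => hx (h.eq h6 hL e b a ▸ h7)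
  have h9 := h.order h6 h7 h5 (fun e => ne_one_of_prime hr h3 (h8 y h2 e)) (h.commute_of_inf h6 h8 h2
    (h.norm' h6 (pow_mem h7 k) (ne_one_of_prime hr hk) h4.symm) h7)
  exact h9.2.symm.trans h3

theorem exists_C (hr : r.Prime) (h0 : r ∣ Nat.card L) (hx : x ∉ L) (h1 : orderOf x = r) :
    ∃ C : Subgroup G, ∀ g, g ∈ C ↔ g ∈ L ∨ orderOf g = r := by
  have := Fact.mk hr
  obtain ⟨R, hR⟩ := (isPGroup_zpowers (k := 1) (p := r) (x := x) (by simp [← h1])).exists_le_sylow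
  have h2 := Transfer.sylowIn_inf_normal R L
  obtain ⟨V, h3, ⟨h4, h5⟩, h6⟩ := exists_minimal_le (fun V => V ≠ ⊥ ∧ 𝐍(R.1 ⊓ L) ≤ 𝐍(V))
    ⟨inf_center_ne_bot h2.isPGroup le_rfl le_normalizer fun e => h2.eq_bot_iff.1 e h0,
      fun g hg => mem_norm_inf hg (mem_norm_centS hg)⟩
  have : IsMulCommutative V := ⟨⟨fun a b => Subtype.ext ((h3 b.2).2 a (h3 a.2).1)⟩⟩
  have h7 := h2.isPGroup.to_le (h3.trans inf_le_left)
  obtain ⟨h8, h9⟩ := not_dvd_relIndex hr h7 h4 h5 (fun U a b => or_iff_not_imp_left.2 fun c => h6 U ⟨c, b⟩ a) (K := L)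
    (((syl_iff_sylowIn.2 h2).of_le (le_inf inf_le_right le_normalizer) inf_le_left).not_dvd_relIndex_of_le
      fun a ha v hv => ((h3 hv).2 a ha).symm)
    (Or.inr ⟨x, mem_norm_inf (le_normalizer (hR (mem_zpowers x))) (le_normalizer_of_normal (mem_top _)), fun k hk =>
      ⟨fun e => hx ((Subgroup.mul_mem_cancel_left _ hk).1 e), h1 ▸ orderOf_dvd_of_pow_eq_one (h.pow_eq_one hL hx (by
        simpa using mul_pow_mul_inv_mem (le_normalizer_of_normal (mem_top x)) hk (orderOf (k * x))))⟩⟩)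
    (fun m _ a b v hv => by
      have c : m ^ r = 1 := h.order_of_dvd hL hr h0 a b ▸ pow_orderOf_eq_one m
      rw [c, h.mul_pow_eq_one hL a (le_normalizer_of_normal (mem_top _)) (c ▸ one_mem _) (h3 hv).1.2])
    fun m _ a b v hv c => by_contra fun e => b ((h.order hL (h3 hv).1.2 e a c.symm).2 ▸ dvd_of_mem_pgroup hr h7 hv e)
  obtain ⟨v, hv, v1⟩ := (bot_or_exists_ne_one V).resolve_left h4
  refine ⟨L ⊔ (𝐍(R.1 ⊓ L) ⊓ 𝐂(V)), fun g => ⟨fun hg => or_iff_not_imp_left.2 fun e => ?_, fun hg => ?_⟩⟩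
  · obtain ⟨k, hk, m, hm, rfl⟩ := mem_sup_of_normal_left.1 hg
    have a : m ∉ L := fun a => e (mul_mem hk a)
    have b := h.order_of_dvd hL hr h0 a ((h.order hL (h3 hv).1.2 v1 a (hm.2 v hv)).2 ▸ dvd_of_mem_pgroup hr h7 hv v1)
    exact orderOf_eq_prime (h.mul_pow_eq_one hL a (le_normalizer_of_normal (mem_top _)) (by simp [← b]) hk)
      fun a => e (a ▸ one_mem _)
  by_cases e : g ∈ L
  · exact mem_sup_left e
  obtain ⟨k, hk, m, hm, rfl⟩ := h2.frattini (H := ⊤) le_normalizer_of_normal (mem_top g)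
  refine mul_mem (mem_sup_left hk) (mem_sup_right ⟨hm, mem_of_not_dvd hr (fun g hg => mem_norm_centS (h5 hg)) h9 hm (k := 1)
    (h.pow_eq_one hL (fun a => e (mul_mem hk a)) ?_)⟩)
  simpa [← hg.resolve_left e] using mul_pow_mul_inv_mem (le_normalizer_of_normal (mem_top m)) hk r

theorem caseA : PtConcl G := by
  by_cases h1 : ∀ y ∈ L, y ≠ 1 → 𝐂[y] ≤ L
  · exact Or.inr (Or.inr (Or.inl (frob_of_cent (h.ne_bot hL) (h.ne_top hL) h1)))
  push Not at h1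
  obtain ⟨y, hy, y1, h1⟩ := h1
  obtain ⟨x, h2, hx⟩ := SetLike.not_le_iff_exists.1 h1
  obtain ⟨hr, h3⟩ := h.order hL hy y1 hx (mem_cent.1 h2).symm
  have h0 := orderOf_dvd_natCard _ hy
  generalize orderOf y = r at hr h3 h0
  have := Fact.mk hr
  obtain ⟨C, hC⟩ := h.exists_C hL hr h0 hx h3
  by_cases h4 : C = ⊤
  · refine Or.inr (Or.inl ⟨r, hr, fun e => h.ne_top hL (top_le_iff.1 (e ▸ (closure_le _).2 fun g hg => ?_))⟩)
    exact ((hC g).1 (h4 ▸ mem_top g)).resolve_right fun a => hg (a ▸ pow_orderOf_eq_one g)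
  have hCn : C.Normal := ⟨fun a ha g => (hC _).2 (((hC a).1 ha).imp (hn.conj_mem a · g) fun e => by rw [orderOf_conj, e])⟩
  have h5 : ∀ g, r ∣ orderOf g → g ∈ C := fun g hg =>
    (hC g).2 (or_iff_not_imp_left.2 fun e => h.order_of_dvd hL hr h0 e hg)
  have hLC : L ≤ C := fun g hg => (hC g).2 (Or.inl hg)
  have h6 : IsPGroup r L := by
    refine (isPGroup_iff_primeFactors_card_subset hr.ne_zero).2 fun s hs => by_contra fun h6 => ?_
    have hs1 := Nat.prime_of_mem_primeFactors hs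
    have := Fact.mk hs1
    have h7 : r ≠ s := fun e => h6 (by simp [e, hs1.primeFactors])
    obtain ⟨S, hS⟩ := Transfer.exists_sylowIn s L
    obtain ⟨R, hR⟩ := Transfer.exists_sylowIn r (𝐍(S) ⊓ C)
    obtain ⟨e, he⟩ : ∃ e, e ∉ C := by simpa [eq_top_iff'] using h4
    obtain ⟨k, hk, m, hm, rfl⟩ := hS.frattini (H := ⊤) le_normalizer_of_normal (mem_top e)
    obtain ⟨c, hc, e, e1, rfl⟩ := hR.frattini (H := 𝐍(S))
      (fun g hg => mem_norm_inf (le_normalizer hg) (le_normalizer_of_normal (mem_top _))) hm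
    have e2 := (Subgroup.mul_mem_cancel_left _ hc.1).1 hm
    have e3 : e ∉ C := fun a => he (mul_mem (hLC hk) (mul_mem hc.2 a))
    obtain ⟨q, j, hq, e4, e5⟩ := exists_pow_prime' fun a : e = 1 => e3 (a ▸ one_mem C)
    have e6 : e ^ j ∉ C := fun a => ((hC _).1 a).elim (fun a => ne_one_of_prime hq e5 (h.pow_eq_one hL (fun a => e3 (hLC a)) a))
      fun a => e3 (h5 e (a ▸ orderOf_pow_dvd j))
    have : IsMulCommutative ↥(S ⊓ 𝐂(S)) := ⟨⟨fun a b => Subtype.ext (b.2.2 a a.2.1)⟩⟩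
    have e7 : 𝐍(S) ≤ 𝐍(S ⊓ 𝐂(S)) := fun g hg => mem_norm_inf hg (mem_norm_centS hg)
    refine inf_center_ne_bot hS.isPGroup le_rfl le_normalizer
      (fun e => hS.eq_bot_iff.1 e (Nat.dvd_of_mem_primeFactors hs)) (eq_bot_of_nm hq ((hR.le.trans inf_le_left).trans e7)
        (e7 (pow_mem e2 j)) (pow_mem e1 j) (fun ρ a v hv => ?_) (fun v hv a => by_contra fun b => ?_)
        (IsPGroup.coprime_card_of_ne r s h7 _ _ hR.isPGroup (hS.isPGroup.to_le inf_le_left)))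
    · have b : ρ * e ^ j ∉ C := fun b => e6 ((Subgroup.mul_mem_cancel_left _ (hR.le a).2).1 b)
      have c : (ρ * e ^ j) ^ q = 1 := by_contra fun c => b (h5 _ ((dvd_of_mem_pgroup hr hR.isPGroup (by
        simpa [← e5] using mul_pow_mul_inv_mem (pow_mem e1 j) a q) c).trans (orderOf_pow_dvd _)))
      rw [c, h.mul_pow_eq_one hL (fun c => b (hLC c)) (le_normalizer_of_normal (mem_top _)) (c ▸ one_mem _) (hS.le hv.1)]
    · obtain ⟨k, hk, m, hm, rfl⟩ := hS.frattini (H := ⊤) le_normalizer_of_normal (mem_top x)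
      have c1 : m ∈ C := (Subgroup.mul_mem_cancel_left _ (hLC hk)).1 ((hC _).2 (Or.inr h3))
      have c2 : m ∉ L := fun c => hx (mul_mem hk c)
      have c3 := ((hC m).1 c1).resolve_left c2
      obtain ⟨g, -, hg⟩ := hR.exists_cj_le (isPGroup_zpowers (k := 1) (x := m) (by simp [← c3])) (zpowers_le.2 ⟨hm, c1⟩)
      have c4 := (h.order hL (hS.le hv.1) b (fun c => c2 (by simpa [mul_assoc] using hn.conj_mem _ c g⁻¹))
        (a _ (Transfer.cj_le_iff.1 hg m (mem_zpowers m))).symm).2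
      rw [orderOf_conj, c3] at c4
      exact h7 (eq_of_mem_pgroup hs1 hr hS.isPGroup hv.1 c4.dvd)
  exact Or.inr (Or.inr (Or.inl (frob_of_pgroup hr (isPGroup_of_forall fun g hg => ((hC g).1 hg).elim
    (pow_eq_one_of_mem h6) fun e => ⟨1, by simp [← e]⟩) (fun e => h.ne_bot hL (le_bot_iff.1 (e ▸ hLC))) h4 h5)))

end A

omit hL

section B
variable [hN : N.Normal] (hp : p.Prime) (hE : IsElementaryAbelian p N) (h0 : N ≠ ⊥) (hnn : ∀ L, P L → ¬ L.Normal)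
include h0 hnn

theorem exists_not_mem (hL : P L) : ∃ y ∈ N, y ∉ L := by
  by_contra! e
  obtain ⟨y, h1, h2⟩ := (bot_or_exists_ne_one N).resolve_left h0
  exact hnn L hL (normalizer_eq_top_iff.1 (eq_top_iff.2 fun g _ => h.norm hL (e y h1) h2 (e _ (hN.conj_mem y h1 g))))

include hp hE

theorem b1 (hg : g ∈ 𝐂(N)) : g ^ p = 1 := by
  by_cases h1 : g = 1
  · simp [h1]
  obtain ⟨L, h2, h3⟩ := h.ex g h1
  obtain ⟨y, h4, h5⟩ := h.exists_not_mem h0 hnn h2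
  have := Fact.mk hp
  rw [← orderOf_eq_prime (hE.2 y h4) fun e => h5 (e ▸ one_mem L), (h.order h2 h3 h1 h5 (hg y h4).symm).2, pow_orderOf_eq_one]

theorem b2 (hL : P L) (hy : y ∈ N) (h1 : y ∈ L) (h2 : y ≠ 1) (hg : g ∈ L) : g ^ p ^ 2 = 1 := by
  obtain ⟨z, h4, h5⟩ := h.exists_not_mem h0 hnn hL
  have h6 := h.mul_pow_eq_one hL h5 (h.norm' hL h1 h2 (PGrp.comm_of_mem hE.1 h4 hy)) (hE.2 z h4 ▸ one_mem L) hg
  have h7 := mul_pow_mul_inv_mem (le_normalizer_of_normal (mem_top g)) (hN.conj_mem z h4 g) p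
  rw [inv_mul_cancel_right, h6, one_mul, inv_mem_iff] at h7
  rw [sq, pow_mul, hE.2 _ h7]

theorem b4 (hg : p ∣ orderOf g) : g ^ p ^ 2 = 1 := by
  have := Fact.mk hp
  have h1 : g ≠ 1 := fun e => hp.ne_one (by simpa [e] using hg)
  obtain ⟨L, h2, h3⟩ := h.ex g h1
  by_cases h4 : ∃ y ∈ N, y ∈ L ∧ y ≠ 1
  · exact let ⟨_, a, b, c⟩ := h4; h.b2 hp hE h0 hnn h2 a b c h3
  push Not at h4
  obtain ⟨k, hk⟩ := exists_pow_prime hg
  obtain ⟨y, h5, h6, h7⟩ := exists_fixed hp (dvd_card_of_isPGroup_ne_bot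
    (isPGroup_of_forall fun y hy => ⟨1, by simpa using hE.2 y hy⟩) h0) hk
  have h8 := (h.order h2 h3 h1 (fun e => ne_one_of_prime hp h6 (h4 y h5 e)) (h.commute_of_inf h2 h4 h5
    (h.norm' h2 (pow_mem h3 k) (ne_one_of_prime hp hk) h7.symm) h3)).2
  rw [sq, pow_mul, ← h6, h8, pow_orderOf_eq_one, one_pow]

theorem caseB (hmin : ∀ K : Subgroup G, K.Normal → K ≤ N → K = ⊥ ∨ K = N) : PtConcl G := by
  have := Fact.mk hp
  have hP : IsPGroup p N := isPGroup_of_forall fun y hy => ⟨1, by simpa using hE.2 y hy⟩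
  have hC : IsPGroup p 𝐂(N) := isPGroup_of_forall fun y hy => ⟨1, by simpa using h.b1 hp hE h0 hnn hy⟩
  have hNC : N ≤ 𝐂(N) := le_centralizer_iff_isMulCommutative.2 hE.1
  have := hE.1
  have hn : ⊤ ≤ 𝐍(N) := le_normalizer_of_normal
  by_cases h1 : ∀ m, p ∣ orderOf m → ∀ v ∈ N, (v * m) ^ p = m ^ p
  · obtain ⟨-, h2⟩ := not_dvd_relIndex hp hP h0 hn (fun U a b => hmin U (normal_of_top_le_normalizer b) a) (K := ⊥)
      (by simpa using hp.ne_one) (Or.inl rfl) (fun m _ _ => h1 m) fun m _ a b v hv c => by_contra fun e => b (by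
        obtain ⟨L, h2, h3⟩ := h.ex v e
        by_cases d : m ∈ L
        · exact dvd_of_mem_pgroup hp (isPGroup_zpowers (h.b2 hp hE h0 hnn h2 hv h3 e d)) (mem_zpowers m) a
        · exact (h.order h2 h3 e d c.symm).2 ▸ dvd_of_mem_pgroup hp hP hv e)
    by_cases h3 : 𝐂(N) = ⊤
    · refine Or.inr (Or.inl ⟨p, hp, fun e => h0 (le_bot_iff.1 (le_top.trans (e ▸ (closure_le _).2 fun g hg => ?_)))⟩)
      exact absurd (h.b1 hp hE h0 hnn (h3 ▸ mem_top g)) hg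
    exact Or.inr (Or.inr (Or.inl (frob_of_pgroup hp hC (fun e => h0 (le_bot_iff.1 (e ▸ hNC))) h3 fun g hg =>
      mem_of_not_dvd hp le_normalizer_of_normal h2 (mem_top g) (h.b4 hp hE h0 hnn hg))))
  push Not at h1
  obtain ⟨m, h1, v, hv, h2⟩ := h1
  obtain ⟨T, hT⟩ := (isPGroup_zpowers (h.b4 hp hE h0 hnn h1)).exists_le_sylow
  have hCT : 𝐂(N) ≤ T := hC.le_sylow_of_normal T
  obtain ⟨y, y1, y2, y3, y4⟩ := exists_central_inf (dvd_card_of_isPGroup_ne_bot hP h0) T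
  obtain ⟨L, hL, y5⟩ := h.ex y (ne_one_of_prime hp y3)
  have h3 : ∀ x ∈ T, x ∉ L → x ^ p = 1 := fun x a b => by
    rw [← y3, ← (h.order hL y5 (ne_one_of_prime hp y3) b (y4 x a).symm).2, pow_orderOf_eq_one]
  obtain ⟨x, x1, x2⟩ : ∃ x ∈ T, x ^ p ≠ 1 := by
    by_cases a : m ^ p = 1
    exacts [⟨_, mul_mem (hCT (hNC hv)) (hT (mem_zpowers m)), a ▸ h2⟩, ⟨m, hT (mem_zpowers m), a⟩]
  have x3 : x ∈ L := by_contra fun e => x2 (h3 x x1 e)
  obtain ⟨z, z1, z2⟩ := h.exists_not_mem h0 hnn hL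
  obtain rfl : p = 2 := by_contra fun e => by
    open scoped IsMulCommutative in
    have a : ∀ w : N, w.1 ∉ L → nm p (act hn ⟨x, trivial⟩) w * x ^ p = 1 := fun w b =>
      (mul_pow_eq_nm hn ⟨x, trivial⟩ w p).symm.trans (h3 _ (mul_mem (hCT (hNC w.2)) x1) fun c =>
        b ((Subgroup.mul_mem_cancel_right _ x3).1 c))
    have b := a (⟨z, z1⟩ * ⟨z, z1⟩) fun c => z2 (BS.mem_of_odd_of_mul_self_mem
      ((hp.odd_of_ne_two e).of_dvd_nat (orderOf_dvd_of_pow_eq_one (hE.2 z z1))) c)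
    have c := a ⟨z, z1⟩ z2
    rw [map_mul, coe_mul, mul_assoc, c, mul_one] at b
    exact x2 (by rwa [b, one_mul] at c)
  have h4 : ∀ a ∈ T, a ∉ L → ∀ b ∈ T, b ∉ L → a * b ∈ L := fun a a1 a2 b b1 b2 => by_contra fun e => by
    have c : ∀ c ∈ T, c ∉ L → c * x * c⁻¹ = x⁻¹ := fun c c1 c2 => dg_inv (H := T) (A := T.1 ⊓ L) inf_le_left
      (fun u u1 u2 => sq u ▸ h3 u u1 fun e => u2 ⟨u1, e⟩) c1 (fun e => c2 e.2) ⟨x1, x3⟩
    have d := c _ (mul_mem a1 b1) e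
    rw [(inv_mul_inv_comm (c a a1 a2) (c b b1 b2)).eq, mul_inv_cancel_right] at d
    exact x2 (sq x ▸ mul_eq_one_iff_eq_inv.2 d)
  obtain ⟨g, hg⟩ : ∃ g, g ∉ 𝐍(L) := by simpa [eq_top_iff'] using mt normalizer_eq_top_iff.1 (hnn L hL)
  have h5 : (𝐂(N) ⊓ L).relIndex 𝐂(N) = 2 := ABG.relIndex_eq_two_of (hNC z1) (fun e => z2 e.2) fun a ha =>
    or_iff_not_imp_left.2 fun e => ⟨mul_mem ha (hNC z1), h4 a (hCT ha) (fun e' => e ⟨ha, e'⟩) z (hCT (hNC z1)) z2⟩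
  have h6 : Nat.card ↥(𝐂(N) ⊓ L) ≤ 2 := by
    have a : (𝐂(N) ⊓ L).relIndex (cj g (𝐂(N) ⊓ L)) ≤ 2 := h5 ▸ relIndex_le_of_le_right
      (cj_le_of_le_of_mem_normalizer inf_le_left (le_normalizer_of_normal (mem_top g))) (by omega)
    rwa [← inf_relIndex_right, show 𝐂(N) ⊓ L ⊓ cj g (𝐂(N) ⊓ L) = ⊥ from eq_bot_iff.2 fun u hu => by_contra fun e =>
      hg (cj_eq_self_iff.1 (h.eq (h.conj g hL) hL e (cj_mono g inf_le_right hu.2) hu.1.2)), relIndex_bot_left,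
      card_cj] at a
  have h7 := Transfer.card_mul_relIndex (inf_le_left (a := 𝐂(N)) (b := L))
  have h8 : Kl y z := ⟨y3, two_of_sq (hE.2 z z1) fun e => z2 (e ▸ one_mem L), fun e => z2 (e ▸ y5),
    PGrp.comm_of_mem hE.1 z1 y1⟩
  have h9 := h8.card ▸ card_le_of_le (Kl.closure_le y1 z1)
  have h10 := card_le_of_le hNC
  rw [h5] at h7
  have h11 : N = 𝐂(N) := eq_of_le_of_card_ge hNC (by omega)
  have h12 := Linear.card_normalizer_klein_le (isKleinFour_of_card (by omega) fun u hu => sq u ▸ hE.2 u hu) h11.ge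
  rw [normalizer_eq_top, card_top] at h12
  refine Or.inl (Linear.nonempty_equiv_S4 ?_ fun u hu => ?_)
  · have a := Transfer.card_lt_of_lt (SetLike.lt_iff_le_and_exists.2 ⟨hNC.trans hCT, x, x1, fun e => x2 (hE.2 x e)⟩)
    have b := T.1.card_mul_index
    have c := T.not_dvd_index
    have d : T.1.index ≠ 1 := fun e => hg (h.norm' hL y5 (ne_one_of_two y3) (y4 g (index_eq_one.1 e ▸ mem_top g :)))
    obtain ⟨k, hk⟩ := T.2.exists_card_eq
    have e : 8 ∣ Nat.card T := hk ▸ pow_dvd_pow 2 (show 3 ≤ k from (Nat.pow_lt_pow_iff_right one_lt_two).1 (by omega))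
    obtain ⟨l, hl⟩ := e
    have : 0 < Nat.card T := Nat.card_pos
    have f : 1 * 3 ≤ l * T.1.index := Nat.mul_le_mul (by omega) (by omega)
    rw [hl, mul_assoc] at b
    omega
  · exact absurd (hu ▸ orderOf_dvd_of_pow_eq_one (h.b4 hp hE h0 hnn (by rw [hu]; decide))) (by decide)

end B

theorem caseSS [Nontrivial G] (hS : SS G) (hnn : ∀ L, P L → ¬ L.Normal) : PtConcl G := by
  by_cases h1 : ∃ j, orderOf j = 2 ∧ ∃ L, P L ∧ j ∈ L ∧ ¬ 𝐂[j] ≤ L
  · obtain ⟨j, ⟨hj, L, hL, h2, h3⟩, h4⟩ := Set.exists_max_image _ (fun j => Nat.card 𝐂[j]) (Set.toFinite _) h1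
    have h5 : ∀ g ∈ 𝐂[j], g ∉ L → orderOf g = 2 := fun g a b =>
      (h.order hL h2 (ne_one_of_two hj) b (mem_cent.1 a).symm).2.trans hj
    obtain ⟨g, g1, g2⟩ := SetLike.not_le_iff_exists.1 h3
    refine Or.inr (Or.inr (Or.inr (Or.inl (hS.isPL2 (dgroup (H := 𝐂[j]) (A := 𝐂[j] ⊓ L) (inf_lt_left.2 h3)
      (fun g a b => mul_self_of_two (h5 g a fun e => b ⟨a, e⟩))
      (Exc.four_dvd_card_cent hj (h5 g g1 g2) (mem_cent.1 g1) fun e => g2 (e ▸ h2)) (fun i a b c => ?_) hS.not_solvable)))))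
    have d : 𝐂[j] ≤ 𝐂[i] := fun u hu => mem_cent.2 (c u hu)
    obtain ⟨L', e1, e2⟩ := h.ex i (ne_one_of_two b)
    exact (eq_of_le_of_card_ge d (h4 i ⟨b, L', e1, e2, fun e => h3 (h.eq e1 hL (ne_one_of_two hj)
      (e (d (mem_cent.2 (Commute.refl j)))) h2 ▸ d.trans e)⟩)).symm
  push Not at h1
  obtain ⟨s, hs⟩ := exists_two_of_even (FT.even_card_of_not_solvable G hS.not_solvable)
  obtain ⟨K, hK, h2⟩ := h.ex s (ne_one_of_two hs)
  have h3 : ∀ u ∈ 𝐍(K), orderOf u = 2 → u ∈ K := fun u a b =>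
    let ⟨j, j1, j2, j3⟩ := BS.exists_two_commute_of_normalizes (even_card_of_two_mem hs h2) (mul_self_of_two b) a
    h1 j j2 K hK j1 (mem_cent.2 j3.symm)
  have h4 : IsStronglyEmbedded 𝐍(K) := stronglyEmbedded_iff.2 ⟨mt normalizer_eq_top_iff.1 (hnn K hK),
    even_card_of_two_mem hs (le_normalizer h2), fun t g a b c =>
      h.norm hK (h3 t b a) (ne_one_of_two a) (h3 _ c (by rw [orderOf_conj, a]))⟩
  obtain ⟨Q, t, h5, h6, h7, h8⟩ := Gold.ro_of_se h4 hS.core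
  obtain ⟨z, z1, z2, z3⟩ := exists_central h8.two h5.Q_ne_bot
  have h9 : Q ≤ K := fun y hy => h1 z z2 K hK (h3 z (h5.le z1) z2) (mem_cent.2 (z3 y hy).symm)
  have h10 : K ≤ Q := h5.le_Q_of_isPGroup ((CN.two_or_odd K).resolve_right fun ⟨k, k1, k2, k3⟩ => by
    obtain ⟨q, q1, d, d1, rfl⟩ := h5.exists_QD (le_normalizer k1)
    have d2 := (Subgroup.mul_mem_cancel_left _ (h9 q1)).1 k1
    have d3 : d ≠ 1 := by rintro rfl; exact k3 ((Two.of_mem h8.two (by simpa using q1)).eq_one k2)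
    have d4 := h5.tdt d1
    have d5 : t * d * t ∈ cj t K := by simpa [h5.t_inv] using conj_mem_cj t d2
    have d6 : ∀ u ∈ K, u ∈ cj t K → u = 1 := fun u a b => by_contra fun e =>
      h5.tH (cj_eq_self_iff.1 (h.eq (h.conj t hK) hK e b a))
    have d7 : Commute (t * d * t) d := by
      have := d6 (t * d * t * d * (t * d * t)⁻¹ * d⁻¹) (mul_mem (conj_mem_norm d4.1 d2) (inv_mem d2)) (by
        simpa [mul_assoc] using mul_mem d5 (conj_mem_norm (cj_normalizer t K ▸ d1.2) (inv_mem d5)))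
      rwa [mul_inv_eq_one, mul_inv_eq_iff_eq_mul] at this
    obtain ⟨g, hg⟩ := isConj_iff.1 (se_isConj h4 hs h5.two_t)
    have d8 : d * (t * d * t) ≠ 1 := fun e => d3 (by
      have := d6 _ (inv_mem d2) (eq_inv_of_mul_eq_one_right e ▸ d5)
      simpa using this)
    have d9 := h.norm' (h.conj g hK) (h1 t h5.two_t _ (h.conj g hK) (hg ▸ conj_mem_cj g h2) (mem_cent.2 (by
      rw [commute_iff_eq, mul_assoc, h5.tt'', ← mul_assoc t, ← mul_assoc (t * d), ← mul_assoc (t * d), d7.eq, mul_assoc d, h5.tt''])))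
      d8 (d7.mul_right (Commute.refl _))
    rw [← cj_normalizer, mem_cj] at d9
    obtain ⟨y, y1, x, x1, rfl⟩ := h5.exists_QtH (g := g) fun e => h5.tH (hg ▸ conj_mem_norm (le_normalizer e) (le_normalizer h2))
    have d10 := h5.eq_one_of_tyt (mul_mem (inv_mem y1) (h5.conj_Q d4.1 y1)) (by
      have := mul_mem (conj_mem_norm (le_normalizer x1) d9) (inv_mem d1.1)
      convert this using 1
      simp only [mul_inv_rev, h5.t_inv, mul_assoc, mul_inv_cancel_left, h5.tt, mul_one])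
    have d11 : y ≠ 1 := by
      rintro rfl
      refine h5.tH ?_
      have := conj_mem_norm (le_normalizer x1) (le_normalizer h2)
      rwa [show x * s * x⁻¹ = t⁻¹ * (1 * t * x * s * (1 * t * x)⁻¹) * t by group, hg, inv_mul_cancel, one_mul] at this
    rw [inv_mul_eq_one, eq_mul_inv_iff_mul_eq] at d10
    by_cases d12 : t * d * t ∈ K
    · exact d3 (conj_eq_one_iff.1 (show t * d * t⁻¹ = 1 by rw [h5.t_inv, d6 _ d12 d5]))
    exact d11 ((Two.of_mem h8.two y1).eq_one ((h.order hK (h9 y1) d11 d12 d10).2 ▸ h5.odd_D d4))) le_normalizer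
  have h11 : ∀ a ∈ K, ∀ b ∈ K, orderOf b = 2 → Commute a b := fun a a1 b b1 b2 => by
    obtain ⟨g, g1, rfl⟩ := se_exists_conj h4 z2 b2 (h5.le z1) (le_normalizer b1)
    simpa [mul_assoc] using commute_conj g (z3 _ (h5.conj_Q' g1 (h10 a1))).symm
  have h12 : ∀ t a b : G, orderOf t = 2 → ∀ L, P L → t ∈ L → a ∈ L → b ∈ L → orderOf b = 2 → Commute a b :=
    fun t a b ht L hL a1 a2 a3 a4 => by
      obtain ⟨g, hg⟩ := isConj_iff.1 (se_isConj h4 ht hs)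
      have := h.eq (h.conj g hL) hK (ne_one_of_two hs) (hg ▸ conj_mem_cj g a1) h2
      exact Exc.commute_conj_iff.1 (h11 _ (this ▸ conj_mem_cj g a2) _ (this ▸ conj_mem_cj g a3) (by rw [orderOf_conj, a4]))
  have h13 : ECT G := ⟨fun t ht a b hb a1 a2 =>
      let ⟨L, hL, c⟩ := h.ex t (ne_one_of_two ht)
      h12 t a b ht L hL c (h1 t ht L hL c (mem_cent.2 a1)) (h1 t ht L hL c (mem_cent.2 a2)) hb,
    fun a b x ha hb x1 x2 x3 => by
      obtain ⟨L, hL, c⟩ := h.ex a (ne_one_of_two ha)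
      obtain ⟨L', hL', c'⟩ := h.ex b (ne_one_of_two hb)
      obtain rfl := h.eq hL hL' x1 (h1 a ha L hL c (mem_cent.2 x2)) (h1 b hb L' hL' c' (mem_cent.2 x3))
      exact h12 a a b ha L hL c c c' hb⟩
  obtain ⟨g, hg⟩ := hS.exists_conj hs
  obtain ⟨u, u1, u2⟩ := hS.exists_not_commute hs
  rcases h13.classify hs hg.hb hg.comm hg.ne u1 u2 with ⟨F, _, _, a, b⟩ | a
  · exact Or.inr (Or.inr (Or.inr (Or.inl ⟨F, _, _, a ▸ Nat.le_of_dvd Nat.card_pos
      (Exc.four_dvd_card_cent hs hg.hb hg.comm hg.ne), Or.inl b⟩)))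
  · exact Or.inr (Or.inr (Or.inr (Or.inr a.1)))

theorem main [Nontrivial G] : PtConcl G := by
  by_cases h1 : ∃ L, P L ∧ L.Normal
  · exact let ⟨_, a, _⟩ := h1; h.caseA a
  push Not at h1
  by_cases h2 : SS G
  · exact h.caseSS h2 h1
  obtain ⟨M, _, h3, h4⟩ : ∃ M : Subgroup G, M.Normal ∧ Group.IsSolvable M ∧ M ≠ ⊥ := by simpa [SS] using h2
  obtain ⟨N, _, h5, h6, h7⟩ := exists_minimal_normal_le M h4
  obtain ⟨p, hp, h8⟩ := elementary_of_min (A := ⊤) (Group.isSolvable_of_isSolvable_injective (inclusion_injective h6)) h5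
    le_normalizer_of_normal fun W a b => h7 W (normal_of_top_le_normalizer b) a
  exact h.caseB hp h8 h5 h1 h7

end Pt

/-- a partition has a refinement that is invariant under conjugation -/
theorem exists_pt (S : Set (Subgroup G)) (h2 : ∃ H ∈ S, ∃ K ∈ S, H ≠ K) (h1 : ∀ H ∈ S, H ≠ ⊥)
    (h : ∀ g : G, g ≠ 1 → ∃! H : Subgroup G, H ∈ S ∧ g ∈ H) : Nontrivial G ∧ ∃ P : Subgroup G → Prop, Pt P := by
  choose! c hc hu using h
  obtain ⟨H, a1, K, a2, a3⟩ := h2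
  obtain ⟨x, x1, x2⟩ := (bot_or_exists_ne_one H).resolve_left (h1 H a1)
  obtain ⟨y, y1, y2⟩ := (bot_or_exists_ne_one K).resolve_left (h1 K a2)
  let d : G → Subgroup G := fun g => ⨅ u, cj u⁻¹ (c (u * g * u⁻¹))
  have h3 : ∀ g y, y ∈ d g ↔ ∀ u, u * y * u⁻¹ ∈ c (u * g * u⁻¹) := fun g y => by
    simp only [d, mem_iInf, mem_cj, inv_inv]
  have h4 : ∀ g ≠ 1, g ∈ d g := fun g hg => (h3 g g).2 fun u => (hc _ (by simpa using hg)).2
  have h5 : ∀ g ≠ 1, ∀ y ≠ 1, y ∈ d g → d y = d g := fun g hg y hy e => iInf_congr fun u => by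
    rw [hu _ (by simpa using hy) _ ⟨(hc _ (by simpa using hg)).1, (h3 g y).1 e u⟩]
  refine ⟨⟨_, _, x2⟩, fun L => ∃ g ≠ 1, d g = L, fun g hg => ⟨_, ⟨g, hg, rfl⟩, h4 g hg⟩, ?_, ?_, ?_, ?_⟩
  · rintro _ _ g ⟨a, ha, rfl⟩ ⟨b, hb, rfl⟩ hg c1 c2
    rw [← h5 a ha g hg c1, h5 b hb g hg c2]
  · rintro g _ ⟨a, ha, rfl⟩
    refine ⟨g * a * g⁻¹, by simpa using ha, Subgroup.ext fun y => ?_⟩
    rw [mem_cj, h3, h3]
    exact ⟨fun e u => by simpa [mul_assoc] using e (u * g⁻¹), fun e u => by simpa [mul_assoc] using e (u * g)⟩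
  · rintro _ ⟨a, ha, rfl⟩ e
    have : ∀ z, z ∈ c a := fun z => by simpa using (h3 a z).1 (e ▸ mem_top z) 1
    exact a3 (((hu x x2 H ⟨a1, x1⟩).trans (hu x x2 _ ⟨(hc a ha).1, this x⟩).symm).trans
      ((hu y y2 _ ⟨(hc a ha).1, this y⟩).trans (hu y y2 K ⟨a2, y1⟩).symm))
  · rintro _ ⟨a, ha, rfl⟩ e
    exact ha ((eq_bot_iff_forall _).1 e a (h4 a ha))

end Cfsg.Lib.GW
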