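import Cfsg.Agent.Lib.GW.DGrp
import Cfsg.Agent.Lib.GW.CycSyl
import Cfsg.Agent.Lib.Gold.BenAb
import Cfsg.Agent.Lib.Exc.EC
import Cfsg.Agent.Lib.BS.Cor2

/-!
# Groups in which the subgroups of a cyclic subgroup of even order have the same normalizer (Suzuki)
-/

set_option autoImplicit false
set_option linter.unusedSectionVars false

namespace Cfsg.Lib.GW

open Subgroup Cfsg.Lib.Core Cfsg.Lib.BG1 Cfsg.Lib.Invol Function
open Cfsg.Lib.Amalg hiding le_cent_symm op_top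
open Cfsg.Lib.Exc (EC Hp)
open Cfsg.Lib.Transfer (SylowIn PNil resOf sylowIn_top)

variable {G : Type*} [Group G] [Finite G] {x y s t u v g j : G}

/-- no non-trivial solvable normal subgroup -/
abbrev SS (G : Type*) [Group G] : Prop := ∀ N : Subgroup G, N.Normal → Group.IsSolvable N → N = ⊥

namespace SS
variable (h : SS G)
include h

theorem core : pPrimeCore 2 G = ⊥ := h _ inferInstance (solvable_of_odd (odd_card_oddCore G))

theorem not_solvable [Nontrivial G] : ¬ Group.IsSolvable G := fun _ => top_ne_bot (h ⊤ inferInstance inferInstance)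

theorem isPL2 (h1 : PL2Quot G) : IsPL2 G := by
  obtain ⟨N, hN, h2, h3⟩ := h1
  obtain rfl := h N hN (h2.elim solvable_of_odd fun ⟨m, h4, h5⟩ => by
    obtain ⟨T, hT⟩ := Transfer.exists_sylowIn 2 N
    obtain ⟨_ | _ | k, hk⟩ := hT.isPGroup.exists_card_eq
    iterate 2 exact Hall.solvable_of_pnil_two (pnil_of_cyclic hT (isCyclic_of_card_dvd_prime (p := 2) (by simp [hk])))
    have := card_dvd_of_le hT.le
    rw [hk, h5, pow_succ', Nat.mul_dvd_mul_iff_left two_pos] at this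
    exact absurd (Dvd.dvd.trans (Dvd.intro_left _ (pow_succ _ _).symm) this) h4.not_two_dvd_nat)
  exact h3.of_equiv QuotientGroup.quotientBot.symm

theorem exists_conj (ht : orderOf t = 2) : ∃ g, Kl t (g * t * g⁻¹) := by
  by_contra! e
  have := Block.z_star_center h.core ⟨ht, fun g hg => by_contra fun a => e g ⟨ht, by rw [orderOf_conj, ht], a, hg.symm⟩⟩
  exact ne_one_of_two ht ((eq_bot_iff_forall _).1 (h _ (normal_zpowers this) (solv_zpowers t)) t (mem_zpowers t))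

theorem exists_not_commute (ht : orderOf t = 2) : ∃ u, orderOf u = 2 ∧ ¬ Commute t u := by
  by_contra! e
  have := ABG.omega_normal (G := G)
  have h1 := h (closure {x : G | orderOf x = 2} ⊓ 𝐂(closure {x : G | orderOf x = 2})) inferInstance
    (Group.isSolvable_of_comm fun a b => Subtype.ext (b.2.2 a a.2.1))
  refine ne_one_of_two ht ((eq_bot_iff_forall _).1 h1 t ⟨subset_closure ht, ?_⟩)
  exact le_cent_iff.1 ((closure_le _).2 fun u hu => mem_cent.2 (e u hu).symm)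

/-- the structure given by the Bender-Suzuki theorem when commuting involutions have the same centralizer -/
theorem ec (h1 : EC G) (ht : orderOf t = 2) : ∃ Q, SylowIn 2 Q ⊤ ∧ Q ≤ 𝐂[t] ∧ Hp t ≤ 𝐍(Q) ∧ (∀ x ∈ Q, x * x * (x * x) = 1) ∧
    ((∀ x ∈ Q, x * x = 1) ∨ ∃ x ∈ Q, ∃ y ∈ Q, x * y ≠ y * x) ∧
    ∀ Y : Subgroup G, Odd (Nat.card Y) → Q ≤ 𝐍(Y) → Y = ⊥ := by
  obtain ⟨u, h2, h3⟩ := h.exists_not_commute ht
  have h4 := h1.se ht (h1.ne_top ht h2 h3)
  obtain ⟨Q, r, h5, h6, h7, h8⟩ := Gold.ro_of_se h4 h.core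
  obtain ⟨S, rfl⟩ := h5.sylow_eq h7 h6
  obtain ⟨a, b, h9⟩ := h5.exists_SE
  have h10 : t ∈ S := (syl_top S).mem_of_mem_normalizer (k := 1) (by simpa using sq_of_two ht) trivial
    (h5.norm (h1.mem_of_commute ht (Commute.refl t)))
  obtain ⟨z, -, z2, z3⟩ := exists_central S.2 fun e => ne_one_of_two ht ((eq_bot_iff_forall _).1 e t h10)
  exact ⟨S, sylowIn_top S, fun y hy => h1.cent_eq ht z2 (z3 t h10) ▸ mem_cent.2 (z3 y hy).symm, h5.norm, h8.four,
    (h8.tri a b h9).imp (·.2) (·.1), fun Y h11 => Gold.se_odd_eq_bot h4 h.core (syl_top S) h5.le h11⟩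

end SS

theorem exists_sq_mem {R : Subgroup G} (h : Two s) (h1 : s ∉ R) : ∃ k : ℕ, s ^ k ∉ R ∧ s ^ k * s ^ k ∈ R := by
  obtain ⟨n, hn⟩ := h
  induction n generalizing s with
  | zero => exact absurd (by simpa using hn) fun e : s = 1 => h1 (e ▸ one_mem R)
  | succ n ih =>
    by_cases h2 : s * s ∈ R
    · exact ⟨1, by simpa using h1, by simpa using h2⟩
    obtain ⟨k, hk⟩ := ih h2 (by rw [← sq, ← pow_mul, ← pow_succ', hn])
    exact ⟨2 * k, by rwa [pow_mul, sq]⟩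

theorem exists_two_zpowers (h : Two s) (h1 : s ≠ 1) : ∃ v ∈ zpowers s, orderOf v = 2 :=
  let ⟨k, a, b⟩ := exists_sq_mem (R := ⊥) h h1
  ⟨_, pow_mem (mem_zpowers s) k, two_of_mul_self b a⟩

theorem sq_ne_of_inv (hx : orderOf (x * x) = 2) (h : v * x * v⁻¹ = x⁻¹) : ¬ Commute v x := fun e => by
  rw [e.eq, mul_inv_cancel_right] at h
  exact ne_one_of_two hx (mul_eq_one_iff_eq_inv.2 h)

theorem two_conj_sq (hx : orderOf (x * x) = 2) (g : G) : orderOf (g * x * g⁻¹ * (g * x * g⁻¹)) = 2 := by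
  rw [conj_mul, orderOf_conj, hx]

theorem two_of_sq' (hx : orderOf (x * x) = 2) : Two x := ⟨2, by
  rw [show x ^ 2 ^ 2 = x * x * (x * x) by simp only [← pow_two, ← pow_mul], mul_self_of_two hx]⟩

theorem two_mul_sq (hx : orderOf (x * x) = 2) (hy : orderOf (y * y) = 2) (h : Commute x y) (hne : x * x ≠ y * y) :
    orderOf (x * y * (x * y)) = 2 := by
  rw [h.symm.mul_mul_mul_comm]
  exact Kl.hab ⟨hx, hy, hne.symm, (h.mul_left h).symm.mul_left (h.mul_left h).symm⟩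

/-- the subgroups of a cyclic subgroup of even order have the same normalizer -/
def CN (G : Type*) [Group G] : Prop :=
  ∀ y t : G, orderOf t = 2 → t ∈ zpowers y → ∀ u ∈ zpowers y, u ≠ 1 → 𝐍(zpowers u) = 𝐂[t]

namespace CN
variable (h : CN G)
include h

theorem n1 (ht : orderOf t = 2) (hy : t ∈ zpowers y) : 𝐍(zpowers y) = 𝐂[t] :=
  h y t ht hy y (mem_zpowers y) fun e => ne_one_of_two ht (by simpa [e] using hy)

theorem n2 (ht : orderOf t = 2) (hu : Odd (orderOf u)) (h1 : u ≠ 1) (hc : Commute u t) : 𝐍(zpowers u) = 𝐂[t] := by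
  obtain ⟨m, hm⟩ := Invol.exists_sqrt_of_odd hu
  have h2 : u ∈ zpowers (t * u) := by
    have := pow_mem (mul_mem (mem_zpowers (t * u)) (mem_zpowers _)) m
    rwa [hc.mul_mul_mul_comm, mul_self_of_two ht, one_mul, (Commute.refl u).mul_pow, hm] at this
  exact h (t * u) t ht ((Subgroup.mul_mem_cancel_right _ h2).1 (mem_zpowers _)) u h2 h1

theorem f1 (ht : orderOf t = 2) (hs : orderOf s = 2) {K : Subgroup G} (hK : Odd (Nat.card K))
    (h2 : K ≤ 𝐂[t]) (h3 : s ∈ 𝐍(K)) (h4 : 𝐂[s] ≠ 𝐂[t]) : ∀ u ∈ K, s * u * s⁻¹ = u⁻¹ :=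
  inverts_of_fpf (mul_self_of_two hs) h3 fun _ hd h5 => by_contra fun e =>
    h4 ((h.n2 hs (odd_of_mem hK hd) e h5).symm.trans (h.n2 ht (odd_of_mem hK hd) e (mem_cent.1 (h2 hd))))

theorem norm_odd (ht : orderOf t = 2) (hu : Odd (orderOf u)) (hc : Commute u t) : 𝐂[t] ≤ 𝐍(zpowers u) := by
  by_cases h1 : u = 1
  · subst h1; rw [zpowers_one_eq_bot]; exact le_normalizer_of_normal.trans' le_top
  · exact (h.n2 ht hu h1 hc).ge

theorem f1' (ht : orderOf t = 2) (hs : orderOf s = 2) (h1 : Commute s t) (hu : Odd (orderOf u)) (hc : Commute u t)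
    (h4 : 𝐂[s] ≠ 𝐂[t]) : s * u * s⁻¹ = u⁻¹ :=
  h.f1 ht hs (by rwa [Nat.card_zpowers]) (zpowers_le.2 (mem_cent.2 hc)) (h.norm_odd ht hu hc (mem_cent.2 h1)) h4 u
    (mem_zpowers u)

theorem n4 (hx : orderOf (x * x) = 2) : 𝐍(zpowers x) = 𝐂[x * x] := h.n1 hx (mul_mem (mem_zpowers x) (mem_zpowers x))

theorem pm (hx : orderOf (x * x) = 2) (hg : Commute g (x * x)) : g * x * g⁻¹ = x ∨ g * x * g⁻¹ = x⁻¹ :=
  ABG.eq_or_eq_inv_of_four (ABG.MC.four_iff.2 hx) (ABG.MC.four_iff.2 (two_conj_sq hx g))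
    (conj_mem_norm (h.n4 hx ▸ mem_cent.2 hg) (mem_zpowers x))

theorem inv (hx : orderOf (x * x) = 2) (hg : Commute g (x * x)) (h1 : ¬ Commute g x) : g * x * g⁻¹ = x⁻¹ :=
  (h.pm hx hg).resolve_left fun e => h1 (mul_inv_eq_iff_eq_mul.1 e)

theorem comm_of_ne (hx : orderOf (x * x) = 2) (hy : orderOf (y * y) = 2) (h1 : Commute x (y * y)) (h2 : Commute y (x * x))
    (hne : x * x ≠ y * y) : Commute x y := by_contra fun e => hne (by
  have a := h.inv hy h1 e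
  have b := h.inv hx h2 fun e' => e e'.symm
  rw [← inv_of_two hy]
  calc x * x = x * (y * x * y⁻¹)⁻¹ := by rw [b, inv_inv]
    _ = (x * y * x⁻¹) * y⁻¹ := by group
    _ = _ := by rw [a]; group)

theorem sign (hx : orderOf (x * x) = 2) (hy : orderOf (y * y) = 2) (hc : Commute x y) (hne : x * x ≠ y * y)
    (h1 : Commute g x) (h2 : Commute g (y * y)) : Commute g y := by_contra fun e => by
  have a := h.pm (two_mul_sq hx hy hc hne) (hc.symm.mul_mul_mul_comm x y ▸ (h1.mul_right h1).mul_right h2)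
  rw [← conj_mul, h.inv hy h2 e, h1.eq, mul_inv_cancel_right, mul_inv_rev, ← hc.inv_inv.eq] at a
  rcases a with a | a
  · exact ne_one_of_two hy (mul_eq_one_iff_eq_inv.2 (mul_left_cancel a).symm)
  · exact ne_one_of_two hx (mul_eq_one_iff_eq_inv.2 (mul_right_cancel a))

/-- the square of an element of order four is central in every 2-subgroup containing the element -/
theorem lemL {T : Subgroup G} (hT : IsPGroup 2 T) (hx : orderOf (x * x) = 2) (hxT : x ∈ T) : T ≤ 𝐂[x * x] := by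
  by_contra e
  obtain ⟨r, r1, r2⟩ := SetLike.exists_of_lt (Transfer.lt_inf_normalizer hT (inf_lt_left.2 e))
  obtain ⟨k, k1, k2⟩ := exists_sq_mem (Two.of_mem hT r1.1) r2
  have hxR : x ∈ T ⊓ 𝐂[x * x] := ⟨hxT, mem_cent.2 ((Commute.refl x).mul_right (Commute.refl x))⟩
  have key : ∀ s ∈ T ⊓ 𝐍(T ⊓ 𝐂[x * x]), s ∉ T ⊓ 𝐂[x * x] → Commute (s * x * s⁻¹) x ∧ s * x * s⁻¹ * (s * x * s⁻¹) ≠ x * x ∧
      (s * s ∈ T ⊓ 𝐂[x * x] → s * s = 1) := fun s hs h1 => by
    have h2 := two_conj_sq hx s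
    have h3 : s * x * s⁻¹ * (s * x * s⁻¹) ≠ x * x := fun e =>
      h1 ⟨hs.1, mem_cent.2 (by rw [conj_mul] at e; exact mul_inv_eq_iff_eq_mul.1 e)⟩
    have h4 : Commute (s * x * s⁻¹) x := h.comm_of_ne h2 hx (mem_cent.1 (conj_mem_norm hs.2 hxR).2) (by
      have := commute_conj s (mem_cent.1 (conj_mem_norm (inv_mem hs.2) hxR).2)
      rwa [show s * (s⁻¹ * x * s⁻¹⁻¹) * s⁻¹ = x by group, ← conj_mul] at this) h3
    refine ⟨h4, h3, fun h5 => by_contra fun h6 => ?_⟩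
    have h7 : s * (x * x) * s⁻¹ = s * x * s⁻¹ * (s * x * s⁻¹) := conj_mul.symm
    have h8 : Commute (s * s) x := by
      have a := h.pm (two_mul_sq h2 hx h4 h3) (g := s) (by
        rw [h4.symm.mul_mul_mul_comm, ← h7, commute_iff_eq, ← mul_inv_eq_iff_eq_mul,
          show s * (s * (x * x) * s⁻¹ * (x * x)) * s⁻¹ = s * s * (x * x) * (s * s)⁻¹ * (s * (x * x) * s⁻¹) by group,
          (mem_cent.1 h5.2).eq, mul_inv_cancel_right, h7]
        exact ((h4.mul_left h4).mul_right (h4.mul_left h4)).symm)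
      by_contra h9
      rw [show s * (s * x * s⁻¹ * x) * s⁻¹ = s * s * x * (s * s)⁻¹ * (s * x * s⁻¹) by group,
        h.inv hx (mem_cent.1 h5.2) h9, h4.eq, mul_inv_rev, h4.inv_inv.eq] at a
      rcases a with a | a
      · exact ne_one_of_two hx (mul_eq_one_iff_eq_inv.2 (mul_right_cancel a).symm)
      · exact ne_one_of_two h2 (mul_eq_one_iff_eq_inv.2 (mul_left_cancel a))
    obtain ⟨v, v1, v2⟩ := exists_two_zpowers (Two.of_mem hT h5.1) h6
    have h9 : x ∈ 𝐍(zpowers s) := h.n1 v2 (zpowers_le.2 (mul_mem (mem_zpowers s) (mem_zpowers s)) v1) ▸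
      mem_cent.2 (mem_cent.1 (zpowers_le.2 (mem_cent.2 h8) v1)).symm
    have h10 := mem_cent.1 (zpowers_le.2 (mem_cent.2 (Commute.refl s))
      (mul_mem (conj_mem_norm h9 (mem_zpowers s)) (inv_mem (mem_zpowers s))))
    have h11 : s * (x * s * x⁻¹ * s⁻¹) * s⁻¹ = s * x * s⁻¹ * (s * s * x⁻¹ * (s * s)⁻¹) := by group
    rw [← h10.eq, mul_inv_cancel_right, h8.inv_right.eq, mul_inv_cancel_right,
      show x * s * x⁻¹ * s⁻¹ = x * (s * x * s⁻¹)⁻¹ by group, mul_inv_eq_iff_eq_mul, mul_assoc, h4.inv_right.symm.eq,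
      ← mul_assoc, eq_mul_inv_iff_mul_eq] at h11
    exact h3 h11.symm
  have k0 := pow_mem r1 k
  generalize r ^ k = s at k0 k1 k2
  obtain ⟨a1, a2, a3⟩ := key _ k0 k1
  have a4 : s * x * (s * x) = s * x * s⁻¹ * x := by rw [inv_eq_of_mul_eq_one_right (a3 k2)]; group
  have a5 := (key _ (mul_mem k0 ⟨hxT, le_normalizer hxR⟩) fun e => k1 ((Subgroup.mul_mem_cancel_right _ hxR).1 e)).2.2
    (a4 ▸ mul_mem (conj_mem_norm k0.2 hxR) hxR)
  exact ne_one_of_two (two_mul_sq (two_conj_sq hx s) hx a1 a2) (by rw [← a4, a5, one_mul])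

/-- an element of `C(x²)` inverting `x` has order two, or its 2-part inverts `x` and is not an involution -/
theorem exists_two_inv (hx : orderOf (x * x) = 2) (h1 : Commute g (x * x)) (h2 : ¬ Commute g x) (h3 : g * g ≠ 1) :
    ∃ y, Two y ∧ y * y ≠ 1 ∧ Commute y (x * x) ∧ ¬ Commute y x := by
  obtain ⟨a, ha, b, hb, a1, a2, rfl⟩ := exists_two_odd g
  have a3 := mem_cent.1 (zpowers_le.2 (mem_cent.2 h1) hb)
  obtain ⟨k, hk⟩ := two_of_sq' hx
  have a4 := ABG.commute_of_odd_of_conj_mem_zpowers hk a2 (conj_mem_norm (h.n4 hx ▸ mem_cent.2 a3) (mem_zpowers x))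
  have a5 : ¬ Commute a x := fun e => h2 (e.mul_left a4)
  refine ⟨a, a1, fun e => a5 ?_, mem_cent.1 (zpowers_le.2 (mem_cent.2 h1) ha), a5⟩
  have a6 : b ≠ 1 := by rintro rfl; exact h3 (by simpa using e)
  have a7 := h.n2 (two_of_mul_self e fun e => a5 (e ▸ Commute.one_left x)) a2 a6 (PGrp.comm_of_mem inferInstance hb ha)
  exact (mem_cent.1 (a7 ▸ mem_norm_of_comm a4.symm)).symm

theorem sq_mem (_hx : orderOf (x * x) = 2) (h0 : Two y) (h1 : y * y ≠ 1) (h2 : y * x * y⁻¹ = x⁻¹) : x * x ∈ zpowers y := by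
  obtain ⟨v, v1, v2⟩ := exists_two_zpowers (Two.of_mem h0.isPGroup (mul_mem (mem_zpowers y) (mem_zpowers y))) h1
  have h3 : x ∈ 𝐍(zpowers y) := h.n1 v2 (zpowers_le.2 (mul_mem (mem_zpowers y) (mem_zpowers y)) v1) ▸
    mem_cent.2 (mem_cent.1 (zpowers_le.2 (mem_cent.2 (inv_mul_inv_comm h2 h2)) v1)).symm
  have := mul_mem (conj_mem_norm h3 (mem_zpowers y)) (inv_mem (mem_zpowers y))
  rwa [show x * y * x⁻¹ * y⁻¹ = x * (y * x * y⁻¹)⁻¹ by group, h2, inv_inv] at this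

omit h in
theorem two_or_odd (H : Subgroup G) : IsPGroup 2 H ∨ ∃ u ∈ H, Odd (orderOf u) ∧ u ≠ 1 := by
  by_contra! e
  exact e.1 (isPGroup_of_forall fun y hy => by
    obtain ⟨a, -, b, hb, a1, a2, rfl⟩ := exists_two_odd y
    rwa [e.2 b (zpowers_le.2 hy hb) a2, mul_one])

theorem of_inv (hns : ¬ Group.IsSolvable G) (hx : orderOf (x * x) = 2) (hv : v * x * v⁻¹ = x⁻¹)
    (h1 : ∀ g, Commute g (x * x) → ¬ Commute g x → g * g = 1) : PL2Quot G := by
  have h2 : Commute x (x * x) := (Commute.refl x).mul_right (Commute.refl x)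
  have h3 : Commute v (x * x) := mem_cent.1 (h.n4 hx ▸ mem_norm_of_inv hv)
  refine dgroup (H := 𝐂[x * x]) (A := 𝐂[x]) (SetLike.lt_iff_le_and_exists.2 ⟨fun g hg => mem_cent.2
    ((mem_cent.1 hg).mul_right (mem_cent.1 hg)), v, mem_cent.2 h3, fun e => sq_ne_of_inv hx hv (mem_cent.1 e)⟩)
    (fun g a b => h1 g (mem_cent.1 a) fun e => b (mem_cent.2 e))
    (ABG.MC.four_iff.2 hx ▸ orderOf_dvd_natCard _ (mem_cent.2 h2)) (fun j _ hj h4 => ?_) hns
  have h5 := mem_cent.2 (h4 x (mem_cent.2 h2))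
  rcases two_or_odd 𝐂[j] with a | ⟨u, a1, a2, a3⟩
  · exact le_antisymm (h.lemL a hx h5) fun g hg => mem_cent.2 (h4 g hg)
  have h6 := h.n2 hj a2 a3 (mem_cent.1 a1)
  have h7 := PGrp.commutator_normalizer_le_centralizer (C := zpowers u) inferInstance
    (commutator_mem_commutator (h6 ▸ h5) (h6 ▸ mem_cent.2 (h4 v (mem_cent.2 h3))))
  rw [commutatorElement_def, show x * v * x⁻¹ * v⁻¹ = x * (v * x * v⁻¹)⁻¹ by group, hv, inv_inv] at h7
  exact h6.symm.trans (h.n2 hx a2 a3 (h7 u (mem_zpowers u)))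

section TS
variable (hx : orderOf (x * x) = 2) (hy : orderOf (y * y) = 2) (hc : Commute x y) (hne : x * x ≠ y * y)
include hx hy hc

theorem exists_sylow : ∃ S : Sylow 2 G, S.1 ≤ 𝐂[x * x] ∧ S.1 ≤ 𝐂[y * y] := by
  obtain ⟨k, hk⟩ := two_of_sq' hx
  obtain ⟨l, hl⟩ := two_of_sq' hy
  obtain ⟨S, h1, h2⟩ := exists_sylow_of_commute hk hl hc
  exact ⟨S, h.lemL S.2 hx h1, h.lemL S.2 hy h2⟩

theorem conj_two (hj : j * j = 1) (h1 : Commute x j) (hg : Commute g (x * x)) :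
    g * j * g⁻¹ = j ∨ g * j * g⁻¹ = j * (x * x) := by
  have h2 : x * j * (x * j) = x * x := by rw [h1.symm.mul_mul_mul_comm, hj, mul_one]
  have h3 : g * j * g⁻¹ = (g * x * g⁻¹)⁻¹ * (g * (x * j) * g⁻¹) := by group
  have h4 : x⁻¹ * x⁻¹ = x * x := by rw [← mul_inv_rev, inv_of_two hx]
  rcases h.pm (h2 ▸ hx) (h2 ▸ hg) with a | a <;> rcases h.pm hx hg with b | b <;> rw [h3, a, b]
  · simp
  · exact Or.inr (by rw [inv_inv, ← mul_assoc, (h1.mul_left h1).eq])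
  · exact Or.inr (by rw [mul_inv_rev, inv_eq_of_mul_eq_one_right hj, ← mul_assoc, h1.inv_left.eq, mul_assoc, h4])
  · exact Or.inl (by rw [mul_inv_rev, inv_eq_of_mul_eq_one_right hj, inv_inv, ← mul_assoc, h1.eq, mul_inv_cancel_right])

theorem cent_le : 𝐂[x * x] ≤ 𝐂[y * y] := fun g hg => by
  obtain ⟨S, h1, h2⟩ := h.exists_sylow hx hy hc
  obtain ⟨w, h3, u, h4, rfl⟩ := (Transfer.sylowIn_of_le S h1).exists_resOf_mul hg
  exact mul_mem (Transfer.resOf_le_iff.2 (fun d hd ho => mem_cent.2 (mul_inv_eq_iff_eq_mul.1 (ABG.fix_of_odd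
    (Nat.coprime_two_right.1 ho) (mul_inv_eq_iff_eq_mul.2 (mem_cent.1 hd)) (mul_self_of_two hx)
    (h.conj_two hx hy hc (mul_self_of_two hy) (hc.mul_right hc) (mem_cent.1 hd))))) h3) (h2 h4)

theorem cent_eq : 𝐂[x * x] = 𝐂[y * y] := (h.cent_le hx hy hc).antisymm (h.cent_le hy hx hc.symm)

include hne

theorem of_ts (hS : SS G) : PL2Quot G := by
  have : Nontrivial G := ⟨_, _, hne⟩
  have h0 := h.cent_eq hx hy hc
  have h1 : ∀ g, Commute g (x * x) → ¬ Commute g x → g * g = 1 := fun g a b => by_contra fun e => by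
    obtain ⟨z, z1, z2, z3, z4⟩ := h.exists_two_inv hx a b e
    have z5 := mem_cent.1 (h0.le (mem_cent.2 z3))
    exact hne (eq_of_mem_zpowers (h.sq_mem hx z1 z2 (h.inv hx z3 z4))
      (h.sq_mem hy z1 z2 (h.inv hy z5 fun e => z4 (h.sign hy hx hc.symm hne.symm e z3))) hx hy)
  by_cases h2 : ∃ v, v * x * v⁻¹ = x⁻¹
  · exact let ⟨_, hv⟩ := h2; h.of_inv hS.not_solvable hx hv h1
  exfalso
  have h3 : ∀ g ∈ 𝐂[x * x], Commute g x := fun g hg => by_contra fun e => h2 ⟨g, h.inv hx (mem_cent.1 hg) e⟩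
  have h4 : ∀ g ∈ 𝐂[x * x], Commute g y := fun g hg => h.sign hx hy hc hne (h3 g hg) (mem_cent.1 (h0.le hg))
  have h5 : ∀ j ∈ 𝐂[x * x], j * j = 1 → ∀ g ∈ 𝐂[x * x], Commute g j := fun j hj a g hg => by
    rcases h.conj_two hx hy hc a (h3 j hj).symm (mem_cent.1 hg) with b | b
    · exact mul_inv_eq_iff_eq_mul.1 b
    rcases h.conj_two hy hx hc.symm a (h4 j hj).symm (mem_cent.1 (h0.le hg)) with c | c
    · exact mul_inv_eq_iff_eq_mul.1 c
    · exact absurd (mul_left_cancel (b.symm.trans c)) hne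
  have hxH : x ∈ 𝐂[x * x] := mem_cent.2 ((Commute.refl x).mul_right (Commute.refl x))
  have hyH : y ∈ 𝐂[x * x] := mem_cent.2 (hc.symm.mul_right hc.symm)
  have h6 : ∀ j ∈ 𝐂[x * x], orderOf j = 2 → 𝐂[j] = 𝐂[x * x] := fun j hj a => by_contra fun e => by
    have b : 𝐂[x * x] ≤ 𝐂[j] := fun g hg => mem_cent.2 (h5 j hj (mul_self_of_two a) g hg)
    rcases two_or_odd 𝐂[j] with c | ⟨u, a1, a2, a3⟩
    · exact e (le_antisymm (h.lemL c hx (b hxH)) b)
    have c1 := h.f1' a hx (mem_cent.1 (b (mul_mem hxH hxH))) a2 (mem_cent.1 a1) (Ne.symm e)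
    have c2 := h.f1' a hy (mem_cent.1 (b (mul_mem hyH hyH))) a2 (mem_cent.1 a1) (h0 ▸ Ne.symm e)
    have c3 := two_mul_sq hx hy hc hne
    have c4 := h.f1' a c3 (mem_cent.1 (b (mul_mem (mul_mem hxH hyH) (mul_mem hxH hyH)))) a2 (mem_cent.1 a1)
      (h.cent_eq hx c3 ((Commute.refl x).mul_right hc) ▸ Ne.symm e)
    exact a3 (eq_one_of_inv_of_comm a2 c4 (hc.symm.mul_mul_mul_comm x y ▸ (inv_mul_inv_comm c1 c2).symm))
  obtain ⟨S, h7, -⟩ := h.exists_sylow hx hy hc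
  obtain ⟨Q, a1, a2, a3, a4, a5, -⟩ := hS.ec (fun t ht a b hb b1 b2 => by
    obtain ⟨g, hg⟩ := exists_conj_two_mem_sylow S ht
    have b3 := h6 _ (h7 hg) (by rw [orderOf_conj, ht])
    exact Exc.commute_conj_iff.1 (h5 _ (b3 ▸ mem_cent.2 (commute_conj g b2)) (by rw [conj_mul, mul_self_of_two hb]; simp)
      _ (b3 ▸ mem_cent.2 (commute_conj g b1)))) hx
  rcases a5 with a5 | ⟨a, b1, b, b2, b3⟩
  · exact ne_one_of_two hx (a5 x (a1.le_of_normalizes (two_of_sq' hx).isPGroup le_top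
      (zpowers_le.2 (cent_le_norm Q fun q hq => h3 q (a2 hq))) (mem_zpowers x)))
  refine b3 (Commute.symm ?_)
  by_cases c : a * a = 1
  · exact h5 a (a2 b1) c b (a2 b2)
  have c1 := two_of_mul_self (a4 a b1) c
  have c2 := mem_cent.1 (h6 _ (a2 (mul_mem b1 b1)) c1 ▸ a2 b2 :)
  by_cases c3 : x * x = a * a
  exacts [h.sign hy c1 (h4 a (a2 b1)).symm (c3 ▸ hne.symm) (h4 b (a2 b2)) c2,
    h.sign hx c1 (h3 a (a2 b1)).symm c3 (h3 b (a2 b2)) c2]

end TS

theorem of_four (hS : SS G) (hx : orderOf (x * x) = 2) : PL2Quot G := by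
  by_cases h1 : ∃ x y : G, orderOf (x * x) = 2 ∧ orderOf (y * y) = 2 ∧ Commute x y ∧ x * x ≠ y * y
  · exact let ⟨_, _, a, b, c, d⟩ := h1; h.of_ts a b c d hS
  have : Nontrivial G := ⟨_, _, ne_one_of_two hx⟩
  obtain ⟨g, hg⟩ := hS.exists_conj hx
  have h2 := two_conj_sq hx g
  rw [← conj_mul] at hg
  generalize g * x * g⁻¹ = z at hg h2
  have h3 : ∀ y, y * y = x * x → z * z * y * (z * z)⁻¹ = y⁻¹ := fun y hy =>
    h.inv (hy ▸ hx) (hy ▸ hg.comm) fun e => by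
      obtain ⟨k, hk⟩ := two_of_sq' (hy ▸ hx : orderOf (y * y) = 2)
      refine h1 ⟨y, z, hy ▸ hx, h2, h.comm_of_ne (hy ▸ hx) h2 e.symm (mem_cent.1 (h.lemL (isPGroup_sup_zpowers
        (two_of_sq' h2).isPGroup hk (h.n4 h2 ▸ mem_cent.2 e.symm)) (hy ▸ hx) (mem_sup_right (mem_zpowers y))
        (mem_sup_left (mem_zpowers z)))) (hy ▸ hg.ne.symm), hy ▸ hg.ne.symm⟩
  generalize z * z = v at hg h3
  have h4 : ∀ y, Two y → y * y ≠ 1 → x * x ∈ zpowers y → v * y * v⁻¹ = y⁻¹ := fun y a1 a2 a3 => by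
    have a4 : v * y * (v * y) ∈ zpowers y := by
      have := mul_mem (conj_mem_norm (h.n1 hx a3 ▸ mem_cent.2 hg.comm) (mem_zpowers y)) (mem_zpowers y)
      rwa [inv_of_two hg.hb, mul_assoc (v * y)] at this
    have a5 : Commute v (v * y * (v * y)) := by
      have : Commute y (v * y * (v * y)) := PGrp.comm_of_mem inferInstance (mem_zpowers y) a4
      simpa using ((Commute.refl (v * y)).mul_right (Commute.refl _)).mul_left this.inv_left
    by_contra a6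
    have a7 : v * y * (v * y) ≠ 1 := fun e => a6 (by rw [inv_of_two hg.hb, eq_inv_iff_mul_eq_one, mul_assoc, e])
    by_cases a8 : v * y * (v * y) * (v * y * (v * y)) = 1
    · have := h3 _ (eq_of_mem_zpowers a4 a3 (two_of_mul_self a8 a7) hx)
      rw [← mul_assoc, mul_self_of_two hg.hb, one_mul, mul_inv_rev, mul_left_inj] at this
      exact a2 (mul_eq_one_iff_eq_inv.2 this)
    generalize v * y * (v * y) = c at a4 a5 a8
    obtain ⟨_, ⟨k, rfl⟩, a9⟩ := exists_two_zpowers (Two.of_mem a1.isPGroup (mul_mem a4 a4)) a8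
    simp only [(Commute.refl c).mul_zpow] at a9
    exact sq_ne_of_inv a9 (h3 _ (eq_of_mem_zpowers (mul_mem (zpow_mem a4 k) (zpow_mem a4 k)) a3 a9 hx)) (a5.zpow_right k)
  refine h.of_inv hS.not_solvable hx (h3 x rfl) fun g a b => by_contra fun e => ?_
  obtain ⟨y, y1, y2, y3, y4⟩ := h.exists_two_inv hx a b e
  have y5 := h.inv hx y3 y4
  have y6 : x * y * (x * y) = y * y := by
    rw [show x * y * (x * y) = x * (y * x * y⁻¹) * (y * y) by group, y5, mul_inv_cancel, one_mul]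
  obtain ⟨k, hk⟩ := y1
  have y7 := h4 (x * y) (Two.of_mem (isPGroup_sup_zpowers (two_of_sq' hx).isPGroup hk (mem_norm_of_inv y5))
    (mul_mem (mem_sup_left (mem_zpowers x)) (mem_sup_right (mem_zpowers y)))) (y6 ▸ y2) (h.sq_mem hx
      (Two.of_mem (isPGroup_sup_zpowers (two_of_sq' hx).isPGroup hk (mem_norm_of_inv y5))
      (mul_mem (mem_sup_left (mem_zpowers x)) (mem_sup_right (mem_zpowers y)))) (y6 ▸ y2) (comm_mul_inv (Commute.refl x) y5))
  rw [← conj_mul, h3 x rfl, h4 y ⟨k, hk⟩ y2 (h.sq_mem hx ⟨k, hk⟩ y2 y5), ← mul_inv_rev, inv_inj] at y7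
  exact y4 y7

theorem of_elem (hS : SS G) (h1 : ∀ x : G, orderOf (x * x) ≠ 2) (ht : orderOf t = 2) : PL2Quot G := by
  have : Nontrivial G := ⟨_, _, ne_one_of_two ht⟩
  have h2 : ∀ x : G, Two x → x * x = 1 := fun x hx => by_contra fun e => by
    obtain ⟨_, ⟨k, rfl⟩, a⟩ := exists_two_zpowers (Two.of_mem hx.isPGroup (mul_mem (mem_zpowers x) (mem_zpowers x))) e
    exact h1 (x ^ k) (by simpa only [(Commute.refl x).mul_zpow] using a)
  by_cases h3 : ∃ t s u : G, orderOf t = 2 ∧ orderOf s = 2 ∧ Commute s t ∧ 𝐂[s] ≠ 𝐂[t] ∧ Odd (orderOf u) ∧ u ≠ 1 ∧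
    Commute u t
  · obtain ⟨t, s, u, ht, hs, a1, a2, a3, a4, a5⟩ := h3
    have a6 := h.n2 ht a3 a4 a5
    have a7 : ∀ s, orderOf s = 2 → Commute s t → ¬ Commute s u → 𝐂[s] ≠ 𝐂[t] := fun s _ _ b e =>
      b (mem_cent.1 (e ▸ mem_cent.2 a5)).symm
    refine dgroup (H := 𝐂[t]) (A := 𝐂[u]) (SetLike.lt_iff_le_and_exists.2 ⟨fun g hg => a6 ▸ mem_norm_of_comm (mem_cent.1 hg),
      s, mem_cent.2 a1, fun e => a4 (eq_one_of_inv_of_comm a3 (h.f1' ht hs a1 a3 a5 a2) (mem_cent.1 e).symm)⟩)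
      (fun g hg e => ?_) (Exc.four_dvd_card_cent ht hs a1 fun e => a2 (e ▸ rfl))
      (fun j _ hj b => (h.n2 hj a3 a4 (b u (mem_cent.2 a5))).symm.trans a6) hS.not_solvable
    obtain ⟨a, ha, b, hb, b1, b2, rfl⟩ := exists_two_odd g
    have b3 := mem_cent.1 (zpowers_le.2 hg hb)
    have b4 : Commute b u := commute_of_inverted (h.f1 ht hs (K := zpowers u ⊔ zpowers b)
      (odd_sup (by rwa [Nat.card_zpowers]) (by rwa [Nat.card_zpowers]) (zpowers_le.2 (a6 ▸ mem_cent.2 b3)))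
      (sup_le (zpowers_le.2 (mem_cent.2 a5)) (zpowers_le.2 (mem_cent.2 b3)))
      (mem_norm_sup (a6 ▸ mem_cent.2 a1) (h.norm_odd ht b2 b3 (mem_cent.2 a1))) a2)
      (mem_sup_right (mem_zpowers b)) (mem_sup_left (mem_zpowers u))
    have b5 : ¬ Commute a u := fun e' => e (mem_cent.2 (e'.mul_left b4))
    have b6 := two_of_mul_self (h2 a b1) fun e => b5 (e ▸ Commute.one_left u)
    have b7 := mem_cent.1 (zpowers_le.2 hg ha)
    rw [eq_one_of_inv_of_comm b2 (h.f1' ht b6 b7 b2 b3 (a7 a b6 b7 b5)) (PGrp.comm_of_mem inferInstance hb ha), mul_one,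
      h2 a b1]
  push Not at h3
  have h4 : ∀ H : Subgroup G, IsPGroup 2 H → ∀ a ∈ H, ∀ b ∈ H, Commute a b := fun H hH a ha b hb =>
    commute_of_inverted (u := 1) (fun c hc => by simpa using (inv_eq_of_mul_eq_one_right (h2 c (Two.of_mem hH hc))).symm) ha hb
  have h5 : EC G := fun t ht a b hb b1 b2 => by
    rcases two_or_odd 𝐂[t] with c | ⟨u, a1, a2, a3⟩
    · exact h4 _ c a (mem_cent.2 b1) b (mem_cent.2 b2)
    · exact mem_cent.1 ((by_contra fun e => h3 t b u ht hb b2 e a2 a3 (mem_cent.1 a1) : 𝐂[b] = 𝐂[t]) ▸ mem_cent.2 b1)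
  obtain ⟨Q, -, a2, -, -, -, a3⟩ := hS.ec h5 ht
  obtain ⟨g, hg⟩ := hS.exists_conj ht
  have h6 := (two_or_odd 𝐂[t]).resolve_right fun ⟨u, a1, a4, a5⟩ => a5 (zpowers_eq_bot.1
    (a3 _ (by rwa [Nat.card_zpowers]) (a2.trans (h.norm_odd ht a4 (mem_cent.1 a1)))))
  exact ⟨⊥, inferInstance, Or.inl (by simp), (isPL2_of_elem (Exc.four_dvd_card_cent ht hg.hb hg.comm hg.ne)
    (fun y hy => h2 y (Two.of_mem h6 hy)) (fun j hj b => h5.cent_eq ht b (mem_cent.1 hj)) hS.not_solvable).of_equiv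
    QuotientGroup.quotientBot⟩

theorem main [Nontrivial G] (hS : SS G) : IsPL2 G := hS.isPL2 (by
  by_cases h1 : ∃ x : G, orderOf (x * x) = 2
  · exact let ⟨_, hx⟩ := h1; h.of_four hS hx
  obtain ⟨t, ht⟩ := exists_two_of_even (FT.even_card_of_not_solvable G hS.not_solvable)
  exact h.of_elem hS (not_exists.1 h1) ht)

end CN

end Cfsg.Lib.GW
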