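import Cfsg.Agent.Lib.Exc.Chz
import Cfsg.Agent.Lib.Exc.AC2
import Cfsg.Agent.Lib.ABG.QGrp
import Cfsg.Agent.Lib.Gold.Inner

/-!
# Groups with an involution whose centralizer is a generalized dihedral group (Suzuki)
-/

set_option autoImplicit false
set_option linter.unusedSectionVars false

namespace Cfsg.Lib.GW

open Subgroup Cfsg.Lib.Core Cfsg.Lib.BG1 Cfsg.Lib.Invol Function
open Cfsg.Lib.Amalg hiding le_cent_symm op_top
open Cfsg.Lib.Exc (DS AC ACT)
open Cfsg.Lib.Transfer (SylowIn PNil resOf sylowIn_top)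
open Cfsg.Lib.Linear (PSL2 PGL2 LL)

variable {G : Type*} [Group G] [Finite G] {X : Type*} [Group X] [Finite X]

/-- `X` is `PSL₂(q)`, or `PGL₂(q)` with `q` odd, `q > 3` -/
def IsPL2 (X : Type*) [Group X] : Prop :=
  ∃ (F : Type) (_ : Field F) (_ : Fintype F), 3 < Fintype.card F ∧
    (Nonempty (X ≃* PSL2 F) ∨ Odd (Fintype.card F) ∧ Nonempty (X ≃* PGL2 F))

omit [Finite G] [Finite X] in
theorem IsPL2.of_equiv (h : IsPL2 G) (e : X ≃* G) : IsPL2 X :=
  let ⟨F, a, b, c, d⟩ := h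
  ⟨F, a, b, c, d.imp (fun ⟨f⟩ => ⟨e.trans f⟩) fun ⟨h, ⟨f⟩⟩ => ⟨h, ⟨e.trans f⟩⟩⟩

theorem exists_cent_of_map {f : G →* X} (hk : Odd (Nat.card f.ker)) {t g : G} (ht : t * t = 1)
    (h : Commute (f g) (f t)) : ∃ c, Commute c t ∧ f c = f g := by
  have h1 : g * t * g⁻¹ * t ∈ f.ker := by
    rw [MonoidHom.mem_ker, map_mul, map_mul, map_mul, h.eq, map_inv, mul_inv_cancel_right, ← map_mul, ht, map_one]
  obtain ⟨m, hm⟩ := exists_conj_of_odd (x := g * t * g⁻¹) (by rw [conj_mul, ht]; simp) ht (odd_of_mem hk h1)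
  refine ⟨(g * t * g⁻¹ * t) ^ m * g, ?_, by rw [map_mul, (pow_mem h1 m :), one_mul]⟩
  rw [commute_iff_eq, ← mul_inv_eq_iff_eq_mul]
  exact Eq.trans (by group) hm

theorem two_map' {f : G →* X} (hk : Odd (Nat.card f.ker)) {t : G} (ht : orderOf t = 2) : orderOf (f t) = 2 :=
  Exc.two_map (fun _ h => odd_of_mem hk h) ht

theorem odd_ker_core : Odd (Nat.card (QuotientGroup.mk' (pPrimeCore 2 G)).ker) := by
  rw [QuotientGroup.ker_mk']; exact odd_card_oddCore G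

theorem solvable_of_map {f : G →* X} (hk : Group.IsSolvable f.ker) (h : Group.IsSolvable X) : Group.IsSolvable G :=
  Group.isSolvable_of_ker_le_range f.ker.subtype f (by simp)

theorem solvable_of_odd' (h : Odd (Nat.card G)) : Group.IsSolvable G :=
  have := solvable_of_odd (K := (⊤ : Subgroup G)) (by rwa [card_top])
  Group.isSolvable_of_surjective (f := (⊤ : Subgroup G).subtype) fun g => ⟨⟨g, trivial⟩, rfl⟩

theorem a7_aux : t7 * (Equiv.swap 0 2 * Equiv.swap 2 1 * Equiv.swap 1 3 * Equiv.swap 4 5) =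
      (Equiv.swap 0 2 * Equiv.swap 2 1 * Equiv.swap 1 3 * Equiv.swap 4 5) * t7 ∧ k7 * t7 = t7 * k7 ∧ k7 ^ 3 = 1 ∧
    (Equiv.swap 0 2 * Equiv.swap 2 1 * Equiv.swap 1 3 * Equiv.swap 4 5 : Equiv.Perm (Fin 7)) ^ 2 ≠ 1 ∧
    (Equiv.swap 0 2 * Equiv.swap 2 1 * Equiv.swap 1 3 * Equiv.swap 4 5) * k7 ≠
      k7 * (Equiv.swap 0 2 * Equiv.swap 2 1 * Equiv.swap 1 3 * Equiv.swap 4 5) := by
  decide

/-- a core-free non-solvable group with dihedral Sylow 2-subgroups and a `D`-group as an involution centralizer -/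
theorem DC2.pl2 (hG : DC2 G) (hO : pPrimeCore 2 G = ⊥) (hns : ¬ Group.IsSolvable G) {τ : G} (hτ : orderOf τ = 2)
    (h : ∀ u, Commute u τ → Odd (orderOf u) → IsConj u u⁻¹ ∧ ∀ y, Commute y τ → y * y ≠ 1 → Commute y u) :
    IsPL2 G := by
  have hE : layer G ≠ ⊥ := fun e => hns (hG.core_free_solv hO e).1
  obtain ⟨h1, h2, h3⟩ := hG.known_layer hO hE
  have := Layer.layer_normal (G := G)
  rcases h1 with ⟨F, _, _, h4, h5, ⟨e⟩⟩ | ⟨⟨e⟩⟩
  · obtain ⟨f⟩ := nonempty_fr _ h3 e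
    have h6 := two_ne_zero_of_odd (F := F) (by rwa [Nat.card_eq_fintype_card])
    have h7 : ∀ y, Commute y τ → f.Φ y = 1 := fun y hy => by
      obtain ⟨a, -, b, hb, a1, a2, rfl⟩ := exists_two_odd y
      obtain ⟨g, hg⟩ := isConj_iff.1 (h b (mem_cent.1 (zpowers_le.2 (mem_cent.2 hy) hb)) a2).1
      have a3 := congrArg f.Φ hg
      rw [map_mul, map_mul, aut_mul_comm (f.Φ g), map_inv, mul_inv_cancel_right, map_inv] at a3
      rw [map_mul, f.Φ_of_Two h6 hG a1, one_mul]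
      exact eq_one_of_odd_of_inv (a2.of_dvd_nat (orderOf_map_dvd _ _)) a3.symm
    obtain ⟨c, hc, -⟩ := f.exists_tor h6 hG hτ
    obtain ⟨w, ⟨w1, w2⟩, w3⟩ := exists_two_mem_of_even (hc.card ▸ even_two_mul _)
    have h8 : ∀ g, f.Φ g = 1 := fun g => by
      obtain ⟨k, hk, a1⟩ := hG.oneClass_of_perfect Layer.layer_commutator_self _ (this.conj_mem _ w1 g) _ w1
        (by rw [orderOf_conj, w3]) w3
      have a2 : Commute (k * g) w := by
        rw [commute_iff_eq, ← mul_inv_eq_iff_eq_mul]; exact Eq.trans (by group) a1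
      obtain ⟨a, -, b, hb, a3, a4, a5⟩ := exists_two_odd (k * g)
      have a6 := mem_UU (mem_cent.1 (zpowers_le.2 (mem_cent.2 a2) hb)) a4
      obtain ⟨u, -, v, hv, b1, b2, b3⟩ := exists_cent_mul_inv hτ (hG.odd_UU w3) (mem_norm_UU (mem_cent.1 w2).symm) a6
      have b4 := congrArg f.Φ b2
      rw [map_mul, map_mul, map_inv, f.Φ_of_two h6 hG hτ, one_mul, inv_one, mul_one, map_inv] at b4
      have b5 := congrArg f.Φ a5
      rwa [map_mul, map_mul, b3, map_mul, f.ΦE hk, f.Φ_of_Two h6 hG a3, h7 u b1, eq_one_of_odd_of_inv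
        ((hG.odd_of_mem w3 hv).of_dvd_nat (orderOf_map_dvd _ _)) b4.symm, one_mul, one_mul, one_mul] at b5
    let κ : G →* PGL2 F := f.K.comp ((MonoidHom.id G).codRestrict _ h8)
    have h9 : Injective κ := f.K_inj.comp fun a b h => congrArg Subtype.val h
    refine ⟨F, inferInstance, inferInstance, h5, ?_⟩
    by_cases h10 : layer G = ⊤
    · exact Or.inl ⟨(topEquiv.symm.trans (MulEquiv.subgroupCongr h10.symm)).trans e⟩
    obtain ⟨g, hg⟩ : ∃ g, g ∉ layer G := by simpa [eq_top_iff'] using h10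
    refine Or.inr ⟨h4, ⟨MulEquiv.ofBijective κ ⟨h9, fun y => ?_⟩⟩⟩
    have a1 : κ g ∉ LL F := fun a => hg ((f.memE g).2 ⟨h8 g, a⟩)
    by_cases hy : y ∈ LL F
    · exact let ⟨x, _, hx⟩ := f.exists_E hy; ⟨x, hx⟩
    · obtain ⟨x, -, hx⟩ := f.exists_E (g := (κ g)⁻¹ * y)
        ((mul_mem_iff_of_index_two (Linear.index_LL h6)).2 (by simp [a1, hy]))
      exact ⟨g * x, by rw [map_mul, show κ x = _ from hx, mul_inv_cancel_left]⟩
  · have h4 := eq_top_of_A7 hG _ h3 e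
    obtain ⟨e', h5⟩ := exists_equiv_t7 ((topEquiv.symm.trans (MulEquiv.subgroupCongr h4.symm)).trans e) hτ
    obtain ⟨a1, a2, a3, a4, a5⟩ := a7_aux
    obtain ⟨k, hk⟩ := exists_rp e' k7 (by decide)
    obtain ⟨y, hy⟩ := exists_rp e' (Equiv.swap 0 2 * Equiv.swap 2 1 * Equiv.swap 1 3 * Equiv.swap 4 5) (by decide)
    have h6 : rp e' τ = t7 := h5
    refine absurd ?_ a5
    rw [← hk, ← hy, ← rp_comm]
    refine (h k ((rp_comm e').2 (by rwa [hk, h6])) ((by decide : Odd 3).of_dvd_nat ?_)).2 y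
      ((rp_comm e').2 (by rw [hy, h6, a1])) fun a => a4 ?_
    · rw [rp_order e', hk]; exact orderOf_dvd_of_pow_eq_one a3
    · rw [← hy, sq, ← map_mul, a, map_one]

/-- a core-free non-solvable group of 2-rank at least two with abelian involution centralizers -/
theorem ac_psl (h : AC G) (hO : pPrimeCore 2 G = ⊥) (hns : ¬ Group.IsSolvable G) {s t : G} (hk : Kl s t) :
    IsPL2 G ∧ ∀ x : G, Two x → x * x = 1 := by
  rcases h.main (hk.ha ▸ (orderOf_dvd_natCard s) |> even_iff_two_dvd.2) with h1 | h1 | ⟨F, _, _, A, _, _, h1, h2, h3, ⟨e⟩⟩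
  · obtain ⟨S, hS⟩ := hk.isPGroup.exists_le_sylow
    exact absurd (h1 S) (hk.not_cyclic (hS (Kl.mem_left s t)) (hS (Kl.mem_right s t)))
  · obtain ⟨S⟩ := Sylow.nonempty (p := 2) (G := G)
    have := h1 S
    refine absurd (solvable_of_map (f := QuotientGroup.mk' S.1) ?_ ?_) hns
    · rw [QuotientGroup.ker_mk']; have := S.2.isNilpotent; infer_instance
    · exact solvable_of_odd' (Nat.odd_iff.2 (Nat.two_dvd_ne_zero.1 S.not_dvd_index))
  · have h4 : (2 : F) = 0 := by exact_mod_cast CharP.cast_eq_zero F 2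
    let f : G →* PSL2 F := (Known.pmkEquiv h4).toMonoidHom.comp ((MonoidHom.fst _ _).comp e.toMonoidHom)
    have h5 : f.ker = ⊥ := eq_bot_of_pPrimeCore_eq_bot hO ((odd_card_of_forall fun y hy => by
      have a : (e y).1 = 1 := (Known.pmkEquiv h4).injective (hy.trans (map_one _).symm)
      rw [← e.orderOf_eq, Prod.orderOf, a, orderOf_one, Nat.lcm_one_left]
      exact h3.of_dvd_nat (orderOf_dvd_natCard _)).coprime_two_right)
    have h6 := MulEquiv.ofBijective f ⟨(MonoidHom.ker_eq_bot_iff f).1 h5,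
      (Known.pmkEquiv h4).surjective.comp (Prod.fst_surjective.comp e.surjective)⟩
    refine ⟨⟨F, _, _, h2, Or.inl ⟨h6⟩⟩, fun x ⟨k, hx⟩ => ?_⟩
    obtain ⟨j, -, hj⟩ := (Nat.dvd_prime_pow Nat.prime_two).1 (orderOf_dvd_of_pow_eq_one hx)
    have h7 := (Known.PSL2_spectrum 2 _).1 ⟨h6 x, h6.orderOf_eq x⟩
    have h8 := Known.char_dvd_natCard (F := F) 2
    have h9 : 0 < Nat.card F := Nat.card_pos
    rw [show Nat.gcd 2 (Nat.card F - 1) = 1 from (Nat.coprime_two_left.2 (by rw [Nat.odd_iff]; omega)),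
      Nat.div_one, Nat.div_one] at h7
    rw [← sq, ← orderOf_dvd_iff_pow_eq_one]
    rcases j with _ | j
    · simp [hj]
    have h10 : 2 ∣ orderOf x := hj ▸ dvd_pow_self 2 j.succ_ne_zero
    rcases h7 with a | a | a
    · exact a
    all_goals have := h10.trans a; omega

/-- `G / N` is `PSL₂(q)` or `PGL₂(q)` for a normal subgroup `N` of order not divisible by four -/
def PL2Quot (G : Type*) [Group G] : Prop :=
  ∃ (N : Subgroup G) (_ : N.Normal), (Odd (Nat.card N) ∨ ∃ m, Odd m ∧ Nat.card N = 2 * m) ∧ IsPL2 (G ⧸ N)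

theorem pl2Quot_core (h : IsPL2 (G ⧸ pPrimeCore 2 G)) : PL2Quot G := ⟨_, _, Or.inl (odd_card_oddCore G), h⟩

theorem pl2Quot_central {c : G ⧸ pPrimeCore 2 G} (hc : orderOf c = 2) [(zpowers c).Normal]
    (h : IsPL2 ((G ⧸ pPrimeCore 2 G) ⧸ zpowers c)) : PL2Quot G := by
  have h1 := QuotientGroup.mk'_surjective (pPrimeCore 2 G)
  have h2 := QuotientGroup.mk'_surjective (zpowers c)
  let f := (QuotientGroup.mk' (zpowers c)).comp (QuotientGroup.mk' (pPrimeCore 2 G))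
  have h3 : Surjective f := h2.comp h1
  refine ⟨f.ker, inferInstance, Or.inr ⟨_, odd_ker_core (G := G), ?_⟩, h.of_equiv (QuotientGroup.quotientKerEquivOfSurjective f h3)⟩
  have h4 := (card_eq_mul_ker h3).symm.trans (card_eq_mul_ker h1)
  rw [card_eq_mul_ker h2, QuotientGroup.ker_mk' (zpowers c), Nat.card_zpowers, hc, mul_assoc] at h4
  exact Nat.eq_of_mul_eq_mul_left Nat.card_pos h4

theorem not_solvable_core (hns : ¬ Group.IsSolvable G) : ¬ Group.IsSolvable (G ⧸ pPrimeCore 2 G) :=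
  fun h => hns (solvable_of_map (solvable_of_odd odd_ker_core) h)

theorem dc2_or_qd (S : Sylow 2 G) {z : S} (h3 : Nat.card 𝐂[z] = 4) (hN : Nc (⊤ : Subgroup G)) :
    DC2 G ∨ IsQuasiDihedral S := by
  obtain ⟨n, hn⟩ := IsPGroup.iff_card.1 S.2
  have h1 : 2 ≤ n := (Nat.pow_dvd_pow_iff_le_right one_lt_two).1
    (hn ▸ ((dvd_of_eq h3.symm).trans (card_subgroup_dvd_card _)))
  obtain ⟨_ | m, rfl⟩ := Nat.exists_eq_add_of_le' h1
  · exact Or.inl (Exc.dc2_of_card_four (sylowIn_top S) hn)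
  obtain ⟨a, b, h⟩ := PGrp.exists_max2_of_maxClass (by omega) hn (PGrp.maxClass_of_centralizer hn h3)
  rcases h.cases with ⟨⟨e⟩⟩ | ⟨⟨e⟩⟩ | e
  · exact Or.inl (dc2_of_dihedral S e)
  · exact absurd hN (uniqInv_iff.1 (uniqInv_of_quat (sylowIn_top S) e))
  · exact Or.inr e

theorem card_cent_subtype {S : Subgroup G} (z : S) : Nat.card 𝐂[z] = Nat.card ↥(S ⊓ 𝐂[(z : G)]) := by
  rw [← card_map_of_injective S.subtype_injective]
  refine congrArg (fun H : Subgroup G => Nat.card H) (le_antisymm ?_ fun y hy => ⟨⟨y, hy.1⟩, ?_, rfl⟩)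
  · rintro _ ⟨y, hy, rfl⟩
    exact ⟨y.2, mem_cent.2 (congrArg Subtype.val (mem_cent.1 hy))⟩
  · exact mem_cent.2 (Subtype.ext (mem_cent.1 hy.2))

/-- `H` is a non-elementary `D`-group with respect to `A`, and the centralizer of every involution of `A` -/
structure DG (H A : Subgroup G) (x : G) : Prop where
  le : A ≤ H
  xH : x ∈ H
  xA : x ∉ A
  sq : ∀ y ∈ H, y ∉ A → y * y = 1
  ne : ∃ a ∈ A, a * a ≠ 1
  cent : ∀ j ∈ A, orderOf j = 2 → 𝐂[j] = H

section
variable {H A : Subgroup G} {x y z a b g : G}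

theorem dg_inv (hA : A ≤ H) (h : ∀ y ∈ H, y ∉ A → y * y = 1) (hy : y ∈ H) (h1 : y ∉ A) (ha : a ∈ A) :
    y * a * y⁻¹ = a⁻¹ := by
  have h2 := h (y * a) (mul_mem hy (hA ha)) fun e => h1 ((Subgroup.mul_mem_cancel_right _ ha).1 e)
  rw [inv_eq_of_mul_eq_one_right (h y hy h1), eq_inv_iff_mul_eq_one, ← h2]; group

namespace DG
variable (h : DG H A x)
include h

theorem inv (hy : y ∈ H) (h1 : y ∉ A) (ha : a ∈ A) : y * a * y⁻¹ = a⁻¹ := dg_inv h.le h.sq hy h1 ha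

theorem comm (ha : a ∈ A) (hb : b ∈ A) : Commute a b := commute_of_inverted (fun _ => h.inv h.xH h.xA) ha hb

theorem memA (hy : y ∈ H) (h1 : y * y ≠ 1) : y ∈ A := by_contra fun e => h1 (h.sq y hy e)

theorem memA' (hy : y ∈ H) (h1 : ∀ a ∈ A, Commute y a) : y ∈ A := by_contra fun e => by
  obtain ⟨a, ha, h2⟩ := h.ne
  have h3 := h.inv hy e ha
  rw [(h1 a ha).eq, mul_inv_cancel_right] at h3
  exact h2 (mul_eq_one_iff_eq_inv.2 h3)

theorem mul_mem (hy : y ∈ H) (h1 : y ∉ A) (hz : z ∈ H) (h2 : z ∉ A) : y * z ∈ A :=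
  h.memA' (Subgroup.mul_mem _ hy hz) fun _ ha => inv_mul_inv_comm (h.inv hy h1 ha) (h.inv hz h2 ha)

theorem two : orderOf x = 2 := two_of_mul_self (h.sq x h.xH h.xA) fun e => h.xA (e ▸ one_mem A)

theorem mem_norm (hy : y ∈ H) (ha : a ∈ A) : y ∈ 𝐍(zpowers a) := by
  by_cases h1 : y ∈ A
  exacts [mem_norm_of_comm (h.comm h1 ha), mem_norm_of_inv (h.inv hy h1 ha)]

theorem mem_syl {P : Subgroup G} (hP : SylowIn 2 P H) (ha : a ∈ A) (h2 : Two a) : a ∈ P :=
  hP.le_of_le_normalizer h2.isPGroup (zpowers_le.2 (h.le ha)) (fun _ hy => h.mem_norm (hP.le hy) ha) (mem_zpowers a)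

theorem norm_of (hz : z ∈ A) (h2 : orderOf z = 2) (hg : g * z * g⁻¹ ∈ A) : g ∈ 𝐍(A) := by
  have h1 : ∀ y, g * y * g⁻¹ ∈ H ↔ y ∈ H := fun y => by
    rw [← h.cent z hz h2, mem_cent (k := y), ← Exc.commute_conj_iff (g := g), ← mem_cent, h.cent z hz h2,
      h.cent _ hg (by rw [orderOf_conj, h2])]
  refine Transfer.mem_normalizer_of_cj_le (Transfer.cj_le_iff.2 fun a ha => by_contra fun e => ?_)
  obtain ⟨b, hb, h3⟩ := h.ne
  have h4 : g⁻¹ * b * g ∈ A := h.memA ((h1 _).1 (by simpa [mul_assoc] using h.le hb)) fun e' => h3 (by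
    simpa [mul_assoc, ← eq_inv_iff_mul_eq_one, inv_mul_eq_one] using congrArg (fun y => g * y * g⁻¹) e')
  have h5 := commute_conj g (h.comm ha h4)
  have h6 := h.inv ((h1 a).2 (h.le ha)) e hb
  rw [show g * (g⁻¹ * b * g) * g⁻¹ = b by group] at h5
  rw [h5.eq, mul_inv_cancel_right] at h6
  exact h3 (mul_eq_one_iff_eq_inv.2 h6)

theorem hyp {f : G →* X} (hf : Surjective f) (hk : Odd (Nat.card f.ker)) (hz : z ∈ A) (h2 : orderOf z = 2) (u : X)
    (hu : Commute u (f z)) (ho : Odd (orderOf u)) :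
    IsConj u u⁻¹ ∧ ∀ y, Commute y (f z) → y * y ≠ 1 → Commute y u := by
  have h1 : ∀ y, Commute y (f z) → y * y ≠ 1 → ∃ a ∈ A, f a = y := fun y hy h3 => by
    obtain ⟨y, rfl⟩ := hf y
    obtain ⟨c, h4, h5⟩ := exists_cent_of_map hk (mul_self_of_two h2) hy
    exact ⟨c, h.memA (h.cent z hz h2 ▸ mem_cent.2 h4) fun e => h3 (by rw [← h5, ← map_mul, e, map_one]), h5⟩
  by_cases h3 : u * u = 1
  · obtain rfl := eq_one_of_odd_of_inv ho (inv_eq_of_mul_eq_one_right h3)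
    exact ⟨by simp, fun y _ _ => Commute.one_right y⟩
  obtain ⟨a, ha, rfl⟩ := h1 u hu h3
  refine ⟨isConj_iff.2 ⟨f x, by rw [← map_inv, ← map_mul, ← map_mul, h.inv h.xH h.xA ha, map_inv]⟩, fun y hy h4 => ?_⟩
  obtain ⟨b, hb, rfl⟩ := h1 y hy h4
  exact (h.comm hb ha).map f

theorem of_dc2 (hG : DC2 G) (hns : ¬ Group.IsSolvable G) (hz : z ∈ A) (h2 : orderOf z = 2) : PL2Quot G :=
  pl2Quot_core ((hG.quotient _).pl2 pPrimeCore_quotient_pPrimeCore (not_solvable_core hns) (two_map' odd_ker_core h2)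
    (h.hyp (QuotientGroup.mk'_surjective _) odd_ker_core hz h2))

theorem of_qd (hns : ¬ Group.IsSolvable G) (hz : z ∈ A) (h2 : orderOf z = 2) (hu : ∀ j ∈ A, orderOf j = 2 → j = z)
    (S : Sylow 2 G) (hQ : IsQuasiDihedral S) (hzS : z ∈ S) {P : Subgroup G} (hP : SylowIn 2 P H)
    (h4 : Nat.card P = 4) : PL2Quot G := by
  obtain ⟨n, hn, hc, E, hE⟩ := ABG.exists_mc_qd hQ
  have h5 : ¬ IsConj E.c z := fun e => by
    obtain ⟨g, rfl⟩ := isConj_iff.1 e
    have := hP.card_le (Transfer.isPGroup_cj g S.2) (h.cent _ hz h2 ▸ Transfer.cj_le_iff.2 fun y hy =>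
      mem_cent.2 (commute_conj g (E.commute_c hy)))
    rw [Transfer.card_cj, h4, hc] at this
    have := Nat.pow_le_pow_right two_pos (show 3 ≤ n + 3 by omega)
    omega
  have h6 := (E.two_cases' hE (sylowIn_top S) h2).resolve_left h5
  have h7 := Block.inZStar_iff.1 (Block.z_star_elt (k := 1) (by simpa [pow_two] using E.c_mul_c)
    (Block.isIsolated_of_sylow S (E.r_mem _) fun g hg =>
      E.conj_c_eq hE (sylowIn_top S) (fun h => h5 (h.isConj.trans h6)) hg))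
  set f := QuotientGroup.mk' (pPrimeCore 2 G)
  change f E.c ∈ _ at h7
  have hf := QuotientGroup.mk'_surjective (pPrimeCore 2 G)
  have := normal_zpowers h7
  have h8 := two_map' (f := f) odd_ker_core E.two_c
  have h9 : E.c ∈ H := h.cent z hz h2 ▸ mem_cent.2 (E.commute_c hzS).symm
  have h10 : E.c ∉ A := fun e => h5 (hu _ e E.two_c ▸ IsConj.refl _)
  set π := QuotientGroup.mk' (zpowers (f E.c))
  have hπ := QuotientGroup.mk'_surjective (zpowers (f E.c))
  have h11 : ∀ y ∈ S, π (f y) = 1 ↔ y ∈ zpowers E.c := fun y hy => by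
    refine (QuotientGroup.eq_one_iff _).trans ?_
    rw [← MonoidHom.map_zpowers]
    refine ⟨fun ⟨w, hw, e⟩ => ?_, mem_map_of_mem f⟩
    rwa [← mul_inv_eq_one.1 (eq_one_of_odd_of_mem S.2 (Subgroup.mul_mem _ hy (inv_mem (zpowers_le.2 (E.r_mem _) hw)))
      (odd_of_mem odd_ker_core (by rw [MonoidHom.mem_ker, map_mul, map_inv, e, mul_inv_cancel])))] at hw
  have h12 : π (f z) ≠ 1 := fun e => (E.mem_zpowers_c.1 ((h11 z hzS).1 e)).elim (ne_one_of_two h2)
    fun e => h10 (e ▸ hz)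
  refine pl2Quot_central h8 ((ABG.QW.dc2 (f := π.comp f) (sylowIn_top S) (Or.inl hQ) (hπ.comp hf) fun y hy =>
    E.center_eq ▸ h11 y hy).pl2 (ABG.core_quotient_eq_bot pPrimeCore_quotient_pPrimeCore (isPGroup_zpowers_two h8)
      (zpowers_le.2 h7)) (fun e => not_solvable_core hns (solvable_of_map (f := π)
        (by rw [QuotientGroup.ker_mk']; exact solv_zpowers _) e))
    (two_of_mul_self (by rw [← map_mul, ← map_mul, mul_self_of_two h2, map_one, map_one]) h12) fun u h13 h14 => ?_)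
  obtain rfl : u = 1 := by
    obtain ⟨w, rfl⟩ := hπ u
    have a1 : w * f z * w⁻¹ * (f z)⁻¹ ∈ zpowers (f E.c) := (QuotientGroup.eq_one_iff _).1 (by
      change π _ = 1
      rw [map_mul, map_mul, map_mul, h13.eq, map_inv, map_inv, mul_inv_cancel_right, mul_inv_cancel])
    have a2 : Commute (w * w) (f z) := by
      rcases mem_zpowers_two' h8 a1 with a | a <;> rw [mul_inv_eq_iff_eq_mul, mul_inv_eq_iff_eq_mul] at a
      · exact Commute.mul_left (a.trans (by rw [one_mul])) (a.trans (by rw [one_mul]))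
      · rw [commute_iff_eq, mul_assoc, a, ← mul_assoc, ← mul_assoc, mem_center_iff.1 h7 w, mul_assoc _ w, a,
          ← mul_assoc, ← mul_assoc, mul_self_of_two h8, one_mul, mul_assoc]
    obtain ⟨v, hv⟩ := hf (w * w)
    obtain ⟨d, a3, a4⟩ := exists_cent_of_map odd_ker_core (mul_self_of_two h2) (hv ▸ a2)
    have a5 : d * d ∈ A := by_contra fun e => e (by
      have := h.cent z hz h2 ▸ mem_cent.2 a3
      by_cases h1 : d ∈ A
      exacts [Subgroup.mul_mem _ h1 h1, h.mul_mem this h1 this h1])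
    have a6 := congrArg f (h.inv h9 h10 a5)
    rw [map_mul, map_mul, ← mem_center_iff.1 h7, map_inv, mul_inv_cancel_right, map_inv, map_mul, a4, hv,
      ← mul_eq_one_iff_eq_inv] at a6
    exact Two.eq_one ⟨3, by rw [← map_pow, show w ^ 2 ^ 3 = w * w * (w * w) * (w * w * (w * w)) by
      simp only [← pow_two, ← pow_mul]; norm_num, a6, map_one]⟩ h14
  exact ⟨by simp, fun y _ _ => Commute.one_right y⟩

theorem of_uniq (hns : ¬ Group.IsSolvable G) (hz : z ∈ A) (h2 : orderOf z = 2) (hu : ∀ j ∈ A, orderOf j = 2 → j = z) :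
    PL2Quot G := by
  obtain ⟨P, h1, hP⟩ := Transfer.exists_sylowIn_ge (isPGroup_zpowers_two h.two) (zpowers_le.2 h.xH)
  have hx := h1 (mem_zpowers x)
  have hzP := h.mem_syl hP hz (Two.of_two h2)
  obtain ⟨r, hr⟩ := PGrp.exists_zpowers_eq_of_isCyclic (PGrp.isCyclic_of_comm_of_card_omegaOne_le
    (hP.isPGroup.to_le (inf_le_left (b := A))) ⟨⟨fun a b => Subtype.ext (h.comm a.2.2 b.2.2)⟩⟩
    ((card_le_of_le ((closure_le _).2 fun y hy => show y ∈ zpowers z by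
      by_cases h6 : y = 1
      exacts [h6 ▸ one_mem _, hu y hy.1.2 (two_of_sq hy.2 h6) ▸ mem_zpowers y])).trans ((Nat.card_zpowers z).trans h2).le))
  have hrA := (hr ▸ mem_zpowers r :).2
  have hD : DS P r x := ⟨mul_self_of_two h.two, h.inv h.xH h.xA hrA, fun e => h.xA (hr ▸ e :).2, fun y => by
    rw [hr]
    refine ⟨fun hy => or_iff_not_imp_left.2 fun e => ⟨Subgroup.mul_mem _ hx hy, h.mul_mem h.xH h.xA (hP.le hy)
      fun e' => e ⟨hy, e'⟩⟩, fun hy => hy.elim (·.1) fun e => (Subgroup.mul_mem_cancel_left _ hx).1 e.1⟩⟩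
  obtain ⟨S, hS⟩ := hP.isPGroup.exists_le_sylow
  rcases hS.eq_or_lt with e | e
  · exact h.of_dc2 (dc2_of_sylow (e ▸ sylowIn_top S) (Or.inr ⟨r, x, hD⟩)) hns hz h2
  have h3 : S.1 ⊓ 𝐂[z] = P := hP.eq_of_le (S.2.to_le inf_le_left) (le_inf hS (h.cent z hz h2 ▸ hP.le))
    (h.cent z hz h2 ▸ inf_le_right)
  obtain ⟨g, ⟨g1, g2⟩, g3⟩ := SetLike.exists_of_lt (Transfer.lt_inf_normalizer S.2 e)
  have h4 : g * z * g⁻¹ ∉ A := fun a => g3 (h3 ▸ ⟨g1, mem_cent.2 (mul_inv_eq_iff_eq_mul.1 (hu _ a (by rw [orderOf_conj, h2])))⟩)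
  have h5 := h.inv (hP.le (conj_mem_norm g2 hzP)) h4 hrA
  have h6 := commute_conj g (mem_cent.1 (h3 ▸ conj_mem_norm (inv_mem g2) (hD.le (mem_zpowers r)) :).2)
  rw [show g * (g⁻¹ * r * g⁻¹⁻¹) * g⁻¹ = r by group] at h6
  rw [← h6.eq, mul_inv_cancel_right] at h5
  have h7 : Nat.card P = 4 := by
    rw [hD.card, two_of_mul_self (mul_eq_one_iff_eq_inv.2 h5)]
    rintro rfl
    exact ne_one_of_two h2 (by simpa using (hr ▸ ⟨hzP, hz⟩ : z ∈ zpowers 1))
  rcases dc2_or_qd S (z := ⟨z, hS hzP⟩) ((card_cent_subtype (S := S.1) _).trans (h3 ▸ h7))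
    ⟨z, trivial, x, trivial, ds_nc hD h2 (hr ▸ ⟨hzP, hz⟩)⟩ with a | a
  exacts [h.of_dc2 a hns hz h2, h.of_qd hns hz h2 hu S a (hS hzP) hP h7]

variable {s t : G} (hs : s ∈ A) (ht : t ∈ A) (hk : Kl s t)
include hs ht hk

theorem norm_of' (hz : z ∈ A) (h2 : orderOf z = 2) (hg : g * z * g⁻¹ ∈ H) : g ∈ 𝐍(A) := by
  have h1 : ∀ w ∈ A, orderOf w = 2 → g⁻¹ * w * g⁻¹⁻¹ ∈ H := fun w hw h3 => by
    have := commute_conj g⁻¹ (mem_cent.1 (h.cent w hw h3 ▸ hg))
    rw [show g⁻¹ * (g * z * g⁻¹) * g⁻¹⁻¹ = z by group] at this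
    exact h.cent z hz h2 ▸ mem_cent.2 this.symm
  rw [← inv_mem_iff]
  by_cases a : g⁻¹ * s * g⁻¹⁻¹ ∈ A
  · exact h.norm_of hs hk.ha a
  by_cases b : g⁻¹ * t * g⁻¹⁻¹ ∈ A
  · exact h.norm_of ht hk.hb b
  exact h.norm_of (Subgroup.mul_mem _ hs ht) hk.hab (by
    simpa only [conj_mul] using h.mul_mem (h1 s hs hk.ha) a (h1 t ht hk.hb) b)

theorem conj_mem (ha : a ∈ A) (hg : g * a * g⁻¹ ∈ H) : g * a * g⁻¹ ∈ A := by
  by_cases h1 : a * a = 1
  · by_cases h2 : a = 1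
    · simp [h2]
    · exact conj_mem_norm (h.norm_of' hs ht hk ha (two_of_mul_self h1 h2) hg) ha
  · exact h.memA hg fun e => h1 (by simpa using e)

theorem of_kl (hns : ¬ Group.IsSolvable G) : PL2Quot G := by
  obtain ⟨P, h1, hP⟩ := Transfer.exists_sylowIn_ge (isPGroup_zpowers_two h.two) (zpowers_le.2 h.xH)
  have hx := h1 (mem_zpowers x)
  have hsP := h.mem_syl hP hs (Two.of_two hk.ha)
  obtain ⟨S, hS⟩ := hP.isPGroup.exists_le_sylow
  obtain rfl : P = S := eq_of_inf_normalizer_le S.2 hS (by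
    have a1 : S.1 ⊓ 𝐍(P) ≤ 𝐍(P ⊓ A) := fun g hg =>
      mem_norm_inf hg.2 (h.norm_of' hs ht hk hs hk.ha (hP.le (conj_mem_norm hg.2 hsP)))
    have a2 := S.2.to_le (inf_le_left (b := 𝐍(P)))
    obtain ⟨j, ⟨j1, j2⟩, j3, -⟩ := exists_central ((hP.isPGroup.to_le inf_le_left).to_le inf_le_left)
      (inf_center_ne_bot a2 (inf_le_left.trans (le_inf hS le_normalizer)) a1
        fun e => ne_one_of_two hk.ha ((eq_bot_iff_forall _).1 e s ⟨hsP, hs⟩))
    exact (hP.eq_of_le a2 (le_inf hS le_normalizer) (h.cent j j1.2 j3 ▸ le_cent_iff.2 j2)).le)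
  obtain ⟨K, hK, h2, h3, -⟩ := exists_normal_inf_eq S (M := S.1 ⊓ A) inf_le_left fun y hy g hg =>
    ⟨Subgroup.mul_mem _ (inv_mem hy) hg, by
      by_cases a : y ∈ A
      · exact Subgroup.mul_mem _ (inv_mem a) (h.conj_mem hs ht hk a (hP.le hg))
      · exact h.mul_mem (inv_mem (hP.le hy)) (by simpa using a) (hP.le hg) fun e => a (by
          simpa [mul_assoc] using h.conj_mem hs ht hk (g := g⁻¹) e (by simpa [mul_assoc] using hP.le hy))⟩
  rw [ABG.relIndex_eq_two_of (T := S.1 ⊓ A) (N := S.1) hx (fun e => h.xA e.2) fun n hn => or_iff_not_imp_left.2 fun e =>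
    ⟨Subgroup.mul_mem _ hn hx, h.mul_mem (hP.le hn) (fun e' => e ⟨hn, e'⟩) h.xH h.xA⟩] at h3
  have h4 : ∀ y, Odd (orderOf y) → y ∈ K := fun y hy =>
    ABG.mem_of_odd_of_relIndex_two (N := ⊤) (by rwa [relIndex_top_right]) trivial hy
  have h5 : A ≤ K := fun a ha => by
    obtain ⟨u, hu, v, -, a1, a2, rfl⟩ := exists_two_odd a
    have := zpowers_le.2 ha hu
    exact Subgroup.mul_mem _ (h2.ge ⟨h.mem_syl hP this a1, this⟩).1 (h4 v a2)
  have h6 : ∀ y ∈ H, y ∈ K → y ∈ A := fun y hy a => by_contra fun e => h.xA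
    (h2.le ⟨(Subgroup.mul_mem_cancel_right _ a).1 (h5 (h.mul_mem h.xH h.xA hy e)), hx⟩).2
  set f := QuotientGroup.mk' (pPrimeCore 2 G)
  have hf : Surjective f := QuotientGroup.mk'_surjective (pPrimeCore 2 G)
  have ho : Odd (Nat.card f.ker) := odd_ker_core
  have h7 : (K.map f).comap f = K := comap_map_eq_self fun y hy => h4 y (odd_of_mem ho hy)
  have h8 : ∀ y, f y ∈ K.map f → y ∈ K := fun y hy => h7.le hy
  have h9 : (K.map f).index = 2 := by rw [← index_comap_of_surjective _ hf, h7, h3]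
  have := hK.map f hf
  have h10 : 𝐎'[2](K.map f) = ⊥ := Layer.pPrimeCoreOf_eq_bot_of_isSubnormal Nat.prime_two
    pPrimeCore_quotient_pPrimeCore this.isSubnormal
  obtain ⟨h11, h12⟩ := ac_psl (G := K.map f) (s := ⟨f s, mem_map_of_mem f (h5 hs)⟩) (t := ⟨f t, mem_map_of_mem f (h5 ht)⟩)
    (fun v hv a b a1 a2 => by
      obtain ⟨w, w1, w2⟩ := Exc.exists_two_lift (fun _ h => odd_of_mem ho h) hf ((orderOf_coe v).trans hv)
      obtain ⟨g, hg⟩ := exists_conj_two_mem_sylow S w1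
      have w3 := (h2.le ⟨hK.conj_mem _ (h8 w (w2 ▸ v.2)) g, hg⟩).2
      have w4 : ∀ a : K.map f, Commute a v → ∃ c, f c = a ∧ g * c * g⁻¹ ∈ A := fun a ha => by
        obtain ⟨d, hd⟩ := hf a
        obtain ⟨c, c1, c2⟩ := exists_cent_of_map ho (mul_self_of_two w1) (g := d) (by
          rw [hd, w2]; exact ha.map (K.map f).subtype)
        exact ⟨c, c2.trans hd, h6 _ (h.cent _ w3 (by rw [orderOf_conj, w1]) ▸ mem_cent.2 (commute_conj g c1))
          (hK.conj_mem _ (h8 c (c2 ▸ hd ▸ a.2)) g)⟩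
      obtain ⟨c, c1, c2⟩ := w4 a a1
      obtain ⟨d, d1, d2⟩ := w4 b a2
      have := (Exc.commute_conj_iff.1 (h.comm c2 d2)).map f
      rw [c1, d1] at this
      exact Subtype.ext this)
    (pPrimeCoreOf_eq_bot_iff.1 ((map_pPrimeCore_subtype Nat.prime_two _).trans h10))
    (fun e => not_solvable_core hns (solvable_of_map (f := QuotientGroup.mk' (K.map f))
      (by rwa [QuotientGroup.ker_mk']) (by
        have := (IsPGroup.of_card (p := 2) (n := 1) (show Nat.card (_ ⧸ K.map f) = _ from h9)).isNilpotent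
        infer_instance)))
    ⟨(orderOf_mk_eq _).trans (two_map' ho hk.ha), (orderOf_mk_eq _).trans (two_map' ho hk.hb), fun e => by
      have := odd_of_mem ho (show s * t ∈ f.ker by
        rw [MonoidHom.mem_ker, map_mul, show f t = f s from congrArg Subtype.val e, ← map_mul, mul_self_of_two hk.ha, map_one])
      exact absurd (hk.hab ▸ this) (by decide), Subtype.ext (hk.comm.map f)⟩
  obtain ⟨_, ⟨b, hb, rfl⟩, h13⟩ := Gold.exists_inner_cent (t := f x) (k := 1)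
    (syl_iff_sylowIn.2 ((Transfer.sylowIn_inf_normal S K).map f))
    (⟨⟨fun ⟨_, a, ha, rfl⟩ ⟨_, b, hb, rfl⟩ => Subtype.ext ((h.comm (h6 a (hP.le ha.1) ha.2) (h6 b (hP.le hb.1) hb.2)).map f)⟩⟩)
    h10 (le_normalizer_of_normal (mem_top _)) (by
      rintro _ ⟨a, ha, rfl⟩
      have a1 := congrArg f (h.inv h.xH h.xA (h6 a (hP.le ha.1) ha.2))
      have a2 : f a * f a = 1 := congrArg Subtype.val (h12 ⟨f a, mem_map_of_mem f ha.2⟩
        (let ⟨k, hk⟩ := (Two.of_mem S.2 ha.1).map f; ⟨k, Subtype.ext hk⟩))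
      rw [map_mul, map_mul, map_inv, map_inv, inv_eq_of_mul_eq_one_right a2, mul_inv_eq_iff_eq_mul] at a1
      exact a1.symm) (by rw [← map_pow, pow_one, sq_of_two h.two, map_one])
  rw [← map_mul] at h13
  have h14 : x * b ∉ K := fun e => h.xA (h6 x h.xH ((Subgroup.mul_mem_cancel_right _ hb.2).1 e))
  have h15 := two_map' ho (two_of_mul_self (h.sq _ (hP.le (Subgroup.mul_mem _ hx hb.1)) fun e => h14 (h5 e))
    fun e => h14 (e ▸ one_mem _))
  have h16 : f (x * b) ∉ K.map f := fun e => h14 (h8 _ e)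
  generalize f (x * b) = c at h13 h15 h16
  have h17 : ∀ y ∉ K.map f, y * c ∈ K.map f := fun y hy => (mul_mem_iff_of_index_two h9).2 (by simp [hy, h16])
  have h18 : c ∈ center _ := mem_center_iff.2 fun y => by
    by_cases hy : y ∈ K.map f
    exacts [h13 y hy, mul_right_cancel ((h13 _ (h17 y hy)).trans (mul_assoc _ _ _).symm)]
  have := normal_zpowers h18
  refine pl2Quot_central h15 (h11.of_equiv (MulEquiv.ofBijective
    ((QuotientGroup.mk' (zpowers c)).comp (K.map f).subtype) ⟨(injective_iff_map_eq_one _).2 fun y hy => ?_, fun y => ?_⟩).symm)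
  · exact (mem_zpowers_two' h15 ((QuotientGroup.eq_one_iff _).1 hy)).elim (fun e => Subtype.ext e) fun e => absurd (e ▸ y.2) h16
  · obtain ⟨y, rfl⟩ := QuotientGroup.mk'_surjective _ y
    by_cases hy : y ∈ K.map f
    exacts [⟨⟨y, hy⟩, rfl⟩, ⟨⟨_, h17 y hy⟩, QuotientGroup.mk_mul_of_mem y (mem_zpowers c)⟩]

omit hs ht hk in
theorem main (hns : ¬ Group.IsSolvable G) (hz : z ∈ A) (h2 : orderOf z = 2) : PL2Quot G := by
  by_cases hu : ∀ j ∈ A, orderOf j = 2 → j = z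
  · exact h.of_uniq hns hz h2 hu
  push Not at hu
  obtain ⟨j, h3, h4, h5⟩ := hu
  exact h.of_kl hz h3 ⟨h2, h4, h5, h.comm h3 hz⟩ hns

end DG
end

/-- the case of an elementary abelian `D`-group -/
theorem isPL2_of_elem {H : Subgroup G} (h4 : 4 ∣ Nat.card H) (h1 : ∀ y ∈ H, y * y = 1)
    (hC : ∀ j ∈ H, orderOf j = 2 → 𝐂[j] = H) (hns : ¬ Group.IsSolvable G) : IsPL2 G := by
  have hP : IsPGroup 2 H := isPGroup_of_forall fun y hy => ⟨1, by simpa [pow_two] using h1 y hy⟩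
  have h2 : ∀ y ∈ H, ∀ z ∈ H, Commute y z := fun y hy z hz =>
    commute_of_inverted (u := 1) (fun a ha => by simpa using (inv_eq_of_mul_eq_one_right (h1 a ha)).symm) hy hz
  obtain ⟨s, hs, s2⟩ := exists_two_mem_of_even (H := H) (even_iff_two_dvd.2 (dvd_trans (by norm_num) h4))
  obtain ⟨S, hS⟩ := hP.exists_le_sylow
  obtain ⟨z, -, z2, z3⟩ := exists_central S.2 fun e => ne_one_of_two s2 ((eq_bot_iff_forall _).1 e s (hS hs))
  have h3 : S.1 ≤ H := fun y hy => hC z (hC s hs s2 ▸ mem_cent.2 (z3 s (hS hs))) z2 ▸ mem_cent.2 (z3 y hy).symm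
  have h5 : ∀ t, orderOf t = 2 → ∃ g, ∀ y, Commute y t → g * y * g⁻¹ ∈ H := fun t ht =>
    let ⟨g, hg⟩ := exists_conj_two_mem_sylow S ht
    ⟨g, fun y hy => hC _ (h3 hg) (by rw [orderOf_conj, ht]) ▸ mem_cent.2 (commute_conj g hy)⟩
  have h6 : AC G := fun t ht a b ha hb =>
    let ⟨_, hg⟩ := h5 t ht; Exc.commute_conj_iff.1 (h2 _ (hg a ha) _ (hg b hb))
  have h7 : ACT G := ⟨h6, fun a b y ha _ y1 y2 y3 => by
    obtain ⟨g, hg⟩ := h5 a ha
    exact h6 y (two_of_mul_self (by simpa using h1 _ (hg y y2)) y1) a b y2.symm y3.symm⟩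
  obtain ⟨t, ht, t2⟩ : ∃ t ∈ H, t ∉ zpowers s := SetLike.not_le_iff_exists.1 fun e => by
    have := card_le_of_le e
    have := Nat.le_of_dvd Nat.card_pos h4
    rw [Nat.card_zpowers, s2] at *
    omega
  obtain ⟨u, u2, hu⟩ : ∃ u, orderOf u = 2 ∧ ¬ Commute s u := by
    by_contra! e
    have : S.1.Normal := ⟨fun y hy g => by
      by_cases a : y = 1
      · simp [a]
      · exact hS (hC s hs s2 ▸ mem_cent.2 (e _ (by rw [orderOf_conj, two_of_mul_self (h1 y (h3 hy)) a])).symm)⟩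
    refine hns (solvable_of_map (f := QuotientGroup.mk' S.1) ?_ ?_)
    · rw [QuotientGroup.ker_mk']; have := S.2.isNilpotent; infer_instance
    · exact solvable_of_odd' (Nat.odd_iff.2 (Nat.two_dvd_ne_zero.1 S.not_dvd_index))
  obtain ⟨F, _, _, a, b⟩ := h7.psl s2 (two_of_mul_self (h1 t ht) fun e => t2 (e ▸ one_mem _)) (h2 t ht s hs)
    (fun e => t2 (e ▸ mem_zpowers _)) u2 hu
  exact ⟨F, _, _, by rw [a, hC s hs s2]; exact Nat.le_of_dvd Nat.card_pos h4, Or.inl b⟩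

/-- Suzuki: a non-solvable group with a `D`-group that is the centralizer of each of its central involutions -/
theorem dgroup {H A : Subgroup G} (hAH : A < H) (hD : ∀ x ∈ H, x ∉ A → x * x = 1) (h4 : 4 ∣ Nat.card H)
    (hC : ∀ j ∈ H, orderOf j = 2 → (∀ h ∈ H, Commute h j) → 𝐂[j] = H) (hns : ¬ Group.IsSolvable G) : PL2Quot G := by
  by_cases h1 : ∀ y ∈ H, y * y = 1
  · exact ⟨⊥, inferInstance, Or.inl (by simp), (isPL2_of_elem h4 h1 (fun j hj h2 => hC j hj h2 fun y hy =>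
      commute_of_inverted (u := 1) (fun a ha => by simpa using (inv_eq_of_mul_eq_one_right (h1 a ha)).symm) hy hj)
      hns).of_equiv QuotientGroup.quotientBot⟩
  push Not at h1
  obtain ⟨a, a1, a2⟩ := h1
  obtain ⟨x, x1, x2⟩ := SetLike.exists_of_lt hAH
  have h : DG H A x := ⟨hAH.le, x1, x2, hD, ⟨a, by_contra fun e => a2 (hD a a1 e), a2⟩, fun j hj h2 =>
    hC j (hAH.le hj) h2 fun y hy => by
      by_cases e : y ∈ A
      · exact commute_of_inverted (fun _ => dg_inv hAH.le hD x1 x2) e hj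
      · exact (commute_of_inverts (dg_inv hAH.le hD hy e hj) (mul_self_of_two h2)).symm⟩
  have h2 := Transfer.card_mul_relIndex hAH.le
  rw [ABG.relIndex_eq_two_of x1 x2 fun n hn => or_iff_not_imp_left.2 fun e => h.mul_mem hn e x1 x2] at h2
  obtain ⟨z, z1, z2⟩ := exists_two_mem_of_even (H := A) (by rw [Nat.even_iff]; omega)
  exact h.main hns z1 z2

end Cfsg.Lib.GW
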