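import Cfsg.Agent.Lib.GW.CycN
import Cfsg.Agent.Lib.Gold.AbSolv
import Cfsg.Agent.Lib.Clifford.Column
import Cfsg.Agent.Lib.Block.Principal
import Cfsg.Agent.Lib.Linear.AutAlt

/-!
# Groups in which the number of classes of 2-elements is half the order of a Sylow 2-subgroup
-/

set_option autoImplicit false
set_option linter.unusedSectionVars false

namespace Cfsg.Lib.GW.Half

open Subgroup Cfsg.Lib.Core Cfsg.Lib.BG1 Cfsg.Lib.Invol Function
open Cfsg.Lib.Amalg hiding le_cent_symm op_top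
open Cfsg.Lib.Transfer (SylowIn PNil resOf sylowIn_top)

variable {G : Type*} [Group G] [Finite G] {P V : Subgroup G} {x y z h : G}

open Cfsg.Lib.Char in
/-- `4 k(G) ≤ |G| + 3 |G : G'|` -/
theorem four_mul_classes_le : 4 * Nat.card (ConjClasses G) ≤ Nat.card G + 3 * (commutator G).index := by
  classical
  rw [← Clifford.card_irrCharacter_eq]
  choose d hd e using fun χ : IrrCharacter G => χ.2.exists_pos_degree
  have h1 : ∑ χ, d χ ^ 2 = Nat.card G := by
    have := Char.sum_degree_sq (G := G)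
    simp only [e] at this
    exact_mod_cast this
  have h2 : (Finset.univ.filter fun χ => d χ = 1).card = (commutator G).index := by
    have := Block.finsum_degree_sq_le_charKer (commutator G)
    rw [show {χ : IrrCharacter G | commutator G ≤ charKer (χ : G → ℂ)} = ↑(Finset.univ.filter fun χ => d χ = 1) from by
      ext χ; simp [← χ.2.degree_eq_one_iff, e], finsum_mem_coe_finset,
      Finset.sum_congr rfl (g := fun _ => 1) fun χ hχ => by simp [e, (Finset.mem_filter.1 hχ).2]] at this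
    simpa using this
  rw [← h1, ← h2, Finset.card_filter, Finset.mul_sum, ← Finset.sum_add_distrib, Nat.card_eq_fintype_card, mul_comm,
    ← Finset.card_univ, ← smul_eq_mul, ← Finset.sum_const]
  refine Finset.sum_le_sum fun χ _ => ?_
  have := hd χ
  split_ifs with h3
  · simp [h3]
  · nlinarith [show 2 ≤ d χ by omega]

/-- the number of classes of `G` meeting `P` -/
noncomputable def ncl (P : Subgroup G) : ℕ := (ConjClasses.mk '' (P : Set G)).ncard

theorem ncl_le : ncl P ≤ Nat.card (ConjClasses P) := by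
  rw [ncl, ← Set.ncard_univ, show ConjClasses.mk '' (P : Set G) = ConjClasses.map P.subtype '' Set.univ from ?_]
  · exact Set.ncard_image_le
  ext c
  constructor
  · rintro ⟨x, hx, rfl⟩
    exact ⟨ConjClasses.mk ⟨x, hx⟩, trivial, rfl⟩
  · rintro ⟨c, -, rfl⟩
    obtain ⟨x, rfl⟩ := c.exists_rep
    exact ⟨x, x.2, rfl⟩

theorem card_comm_le (hP : IsPGroup 2 P) (hk : 2 * ncl P = Nat.card P) : Nat.card ↥⁅P, P⁆ ≤ 2 := by
  have h1 := four_mul_classes_le (G := P)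
  have h2 := ncl_le (P := P)
  have h3 := (commutator P).index_mul_card
  have h4 : Nat.card (commutator P) = Nat.card ↥⁅P, P⁆ := by
    rw [← card_map_of_injective P.subtype_injective, map_subtype_commutator]
  obtain ⟨k, h5⟩ := (hP.to_le (comm_le_left le_normalizer)).exists_card_eq
  rw [h4, h5] at h3
  rw [h5]
  rcases k with _ | _ | k
  iterate 2 simp
  have := (commutator P).index_ne_zero_of_finite
  have := Nat.pow_pos (n := k) two_pos
  rw [pow_succ, pow_succ] at h3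
  nlinarith [Nat.pos_of_ne_zero ‹_›]

open Classical in
theorem mul_ncl_le (w : G → ℕ) {n : ℕ} (hw : ∀ x ∈ P, ∃ s : Finset G, (∀ y ∈ s, y ∈ P ∧ IsConj x y) ∧ n ≤ ∑ y ∈ s, w y) :
    n * ncl P ≤ ∑ y ∈ (P : Set G).toFinite.toFinset, w y := by
  rw [ncl, ← Finset.sum_fiberwise_of_maps_to (t := (P : Set G).toFinite.toFinset.image ConjClasses.mk)
    (g := ConjClasses.mk) fun x hx => Finset.mem_image_of_mem _ hx, mul_comm, ← smul_eq_mul,
    ← (P : Set G).toFinite.coe_toFinset, ← Finset.coe_image, Set.ncard_coe_finset, Set.Finite.coe_toFinset]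
  refine Finset.card_nsmul_le_sum _ _ _ fun c hc => ?_
  obtain ⟨x, hx, rfl⟩ := Finset.mem_image.1 hc
  obtain ⟨s, h1, h2⟩ := hw x (by simpa using hx)
  refine h2.trans (Finset.sum_le_sum_of_subset fun y hy => ?_)
  simpa using ⟨(h1 y hy).1, ConjClasses.mk_eq_mk_iff_isConj.2 (h1 y hy).2.symm⟩

theorem mem_of_card_le (s : Finset G) (hs : ∀ x ∈ s, x ∈ V) (hc : Nat.card V ≤ s.card) (hx : x ∈ V) : x ∈ s :=
  (Set.eq_of_subset_of_ncard_le (s := (s : Set G)) (t := V) hs (by rwa [Set.ncard_coe_finset])).ge hx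

theorem mem_four {a b c : G} (hV : Nat.card V = 4) (ha : a ∈ V) (hb : b ∈ V) (hc : c ∈ V) (h1 : a ≠ 1) (h2 : b ≠ 1)
    (h3 : c ≠ 1) (h4 : a ≠ b) (h5 : a ≠ c) (h6 : b ≠ c) (hx : x ∈ V) : x = 1 ∨ x = a ∨ x = b ∨ x = c := by
  classical
  simpa using mem_of_card_le {1, a, b, c} (by simp [V.one_mem, *]) (by
    rw [hV, Finset.card_insert_of_notMem (by simp [h1.symm, h2.symm, h3.symm]),
      Finset.card_insert_of_notMem (by simp [*]), Finset.card_pair h6]) hx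

/-- if each coset of the four-subgroup `V` meets at most two classes, fusion respects the cosets -/
theorem focal (hVP : V ≤ P) (hV : Nat.card V = 4) (hk : 2 * ncl P = Nat.card P)
    (h2 : ∀ x ∈ P, ∃ u v, ∀ y ∈ V, IsConj (x * y) u ∨ IsConj (x * y) v) (x : G) (hx : x ∈ P) (g : G)
    (hg : g * x * g⁻¹ ∈ P) : x⁻¹ * (g * x * g⁻¹) ∈ V := by
  choose u v h3 using fun q : P ⧸ V.subgroupOf P => h2 q.out q.out.2
  let φ : (P ⧸ V.subgroupOf P) × Bool → ConjClasses G := fun q => ConjClasses.mk (if q.2 then u q.1 else v q.1)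
  have h4 : ∀ y : P, ∃ b, φ (y, b) = ConjClasses.mk y.1 := fun y => by
    obtain ⟨w, e⟩ := QuotientGroup.mk_out_eq_mul (V.subgroupOf P) y
    have := h3 y (w.1.1)⁻¹ (V.inv_mem w.2)
    rw [e, coe_mul, mul_inv_cancel_right] at this
    exact this.elim (fun a => ⟨true, ConjClasses.mk_eq_mk_iff_isConj.2 a.symm⟩)
      fun a => ⟨false, ConjClasses.mk_eq_mk_iff_isConj.2 a.symm⟩
  have h5 : (Set.univ : Set ((P ⧸ V.subgroupOf P) × Bool)).ncard = ncl P := by
    have := Transfer.card_mul_relIndex hVP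
    rw [Set.ncard_univ, Nat.card_prod, Nat.card_eq_fintype_card (α := Bool), Fintype.card_bool, ← index, ← relIndex]
    rw [hV] at this
    omega
  have h6 := Set.injOn_of_ncard_image_eq (f := φ) (le_antisymm Set.ncard_image_le (h5.trans_le (Set.ncard_le_ncard (by
    rintro _ ⟨y, hy, rfl⟩
    obtain ⟨b, e⟩ := h4 ⟨y, hy⟩
    exact ⟨_, trivial, e⟩))))
  obtain ⟨a, ha⟩ := h4 ⟨x, hx⟩
  obtain ⟨b, hb⟩ := h4 ⟨_, hg⟩
  exact (QuotientGroup.eq (s := V.subgroupOf P) (a := ⟨x, hx⟩) (b := ⟨_, hg⟩)).1 (congrArg Prod.fst (h6 trivial trivial (ha.trans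
    ((ConjClasses.mk_eq_mk_iff_isConj.2 (isConj_iff.2 ⟨g, rfl⟩)).trans hb.symm))))

/-- the commutators in `P` lie in `{1, z}` -/
structure ZC (P : Subgroup G) (z : G) : Prop where
  mem : z ∈ P
  sq : z * z = 1
  comm : ∀ x ∈ P, x * z * x⁻¹ = z
  conj : ∀ x ∈ P, ∀ y ∈ P, x * y * x⁻¹ = y ∨ x * y * x⁻¹ = y * z

theorem exists_zc (hc : Nat.card ↥⁅P, P⁆ ≤ 2) : ∃ z, ZC P z ∧ (z = 1 ∨ z ≠ 1 ∧ ∃ x ∈ P, ∃ y ∈ P, x * y * x⁻¹ = y * z) := by
  classical
  by_cases h : ∀ x ∈ P, ∀ y ∈ P, x * y * x⁻¹ = y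
  · exact ⟨1, ⟨P.one_mem, by simp, by simp, fun x hx y hy => Or.inl (h x hx y hy)⟩, Or.inl rfl⟩
  push Not at h
  obtain ⟨x, hx, y, hy, e⟩ := h
  have h1 : ∀ x ∈ P, ∀ y ∈ P, y⁻¹ * (x * y * x⁻¹) ∈ ⁅P, P⁆ := fun x hx y hy => by
    simpa [commutatorElement_def, mul_assoc] using commutator_mem_commutator (P.inv_mem hy) hx
  have h2 : y⁻¹ * (x * y * x⁻¹) ≠ 1 := fun a => e (by rw [inv_mul_eq_one] at a; exact a.symm)
  generalize hz : y⁻¹ * (x * y * x⁻¹) = z at h2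
  have h3 : z ∈ ⁅P, P⁆ := hz ▸ h1 x hx y hy
  have h4 : ∀ w ∈ ⁅P, P⁆, w = 1 ∨ w = z := fun w hw => by
    simpa using mem_of_card_le {1, z} (by simp [one_mem, h3]) (by rwa [Finset.card_pair h2.symm]) hw
  refine ⟨z, ⟨comm_le_left le_normalizer h3, (h4 _ (mul_mem h3 h3)).resolve_right (by simpa), fun u hu =>
    (h4 _ (Transfer.conj_mem_of_mem_normalizer (left_le_normalizer_comm P P hu) h3)).resolve_left (by simpa),
    fun u hu w hw => (h4 _ (h1 u hu w hw)).imp (fun a => (inv_mul_eq_one.1 a).symm) fun a => by rw [← a]; group⟩,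
    Or.inr ⟨h2, x, hx, y, hy, by rw [← hz]; group⟩⟩

theorem ZC.lt (hz : ZC (⊤ : Subgroup G) z) : Nat.card G < 2 * ncl (⊤ : Subgroup G) := by
  classical
  have := Fintype.ofFinite G
  have h1 := Finset.card_le_mul_card_image (f := ConjClasses.mk) (Finset.univ.erase (1 : G)) 2 fun c hc => by
    obtain ⟨x, -, rfl⟩ := Finset.mem_image.1 hc
    refine (Finset.card_le_card (t := {x, x * z}) fun y hy => ?_).trans Finset.card_le_two
    obtain ⟨g, rfl⟩ := isConj_iff.1 (ConjClasses.mk_eq_mk_iff_isConj.1 (Finset.mem_filter.1 hy).2.symm)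
    simpa using hz.conj g trivial x trivial
  have h2 : ((Finset.univ.erase (1 : G)).image ConjClasses.mk).card < ncl (⊤ : Subgroup G) := by
    rw [← Set.ncard_coe_finset]
    refine Set.ncard_lt_ncard ⟨fun c hc => ?_, fun a => ?_⟩
    · obtain ⟨x, -, rfl⟩ := Finset.mem_image.1 hc
      exact ⟨x, trivial, rfl⟩
    · obtain ⟨x, h3, h4⟩ := Finset.mem_image.1 (a ⟨1, trivial, rfl⟩)
      exact (Finset.mem_erase.1 h3).1 (isConj_one_left.1 (ConjClasses.mk_eq_mk_iff_isConj.1 h4))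
  rw [Finset.card_erase_of_mem (Finset.mem_univ _), Finset.card_univ, ← Nat.card_eq_fintype_card] at h1
  omega

theorem fix {c : G} (ho : Odd (orderOf h)) (hc : Two c) (h1 : h * x * h⁻¹ = x * c) (h2 : Commute c h) : Commute x h := by
  have h3 : ∀ n : ℕ, h ^ n * x * (h ^ n)⁻¹ = x * c ^ n := fun n => by
    induction n with
    | zero => simp
    | succ n ih =>
      calc _ = h * (h ^ n * x * (h ^ n)⁻¹) * h⁻¹ := by rw [pow_succ']; group
        _ = h * x * h⁻¹ * (h * c ^ n * h⁻¹) := by rw [ih]; group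
        _ = _ := by rw [h1, ← (h2.pow_left n).eq, pow_succ']; group
  have h4 := h3 (orderOf h)
  rw [pow_orderOf_eq_one, one_mul, inv_one, mul_one, left_eq_mul] at h4
  rw [hc.eq_one (ho.of_dvd_nat (orderOf_dvd_of_pow_eq_one h4)), mul_one, mul_inv_eq_iff_eq_mul] at h1
  exact h1.symm

theorem two_mul_le {H K : Subgroup G} (h : H < K) : 2 * Nat.card H ≤ Nat.card K := by
  have h1 := Transfer.card_mul_relIndex h.le
  have h2 : H.relIndex K ≠ 1 := fun e => h.2 (relIndex_eq_one.1 e)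
  have h3 : H.relIndex K ≠ 0 := index_ne_zero_of_finite
  rw [← h1, mul_comm]
  exact Nat.mul_le_mul_left _ (by omega)

theorem four_mul_le (hP : IsPGroup 2 P) (ho : Odd (orderOf h)) (hn : h ∈ 𝐍(P)) (hc : h ∉ 𝐂(P)) :
    4 * Nat.card ↥(P ⊓ 𝐂[h]) ≤ Nat.card P := by
  have h1 := Transfer.card_mul_relIndex (inf_le_left (a := P) (b := 𝐂[h]))
  obtain ⟨k, hk⟩ := hP.exists_card_eq
  obtain ⟨_ | _ | l, -, e⟩ := (Nat.dvd_prime_pow Nat.prime_two).1 (hk ▸ Dvd.intro_left _ h1)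
  · exact absurd (le_cent_iff.1 (le_inf_iff.1 (relIndex_eq_one.1 e)).2) hc
  · exact absurd (ABG.mem_centralizer_of_odd_of_relIndex_two inf_le_left hP.to_inf_left e ho hn
      (le_cent_iff.1 inf_le_right)) hc
  · rw [← h1, e, mul_comm]
    exact Nat.mul_le_mul_left _ (Nat.pow_le_pow_right (n := 2) two_pos (by omega : 2 ≤ l + 1 + 1))

open Classical in
theorem sum_ind {C : Subgroup G} (hC : C ≤ P) (a : ℕ) :
    ∑ y ∈ (P : Set G).toFinite.toFinset, (if y ∈ C then a else 0) = a * Nat.card C := by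
  rw [← Finset.sum_filter, Finset.sum_const, smul_eq_mul, mul_comm, ← Set.ncard_coe_finset]
  congr 1
  refine congrArg Set.ncard (Set.ext fun y => ?_)
  simpa using fun a => hC a

theorem card_toFinset : (P : Set G).toFinite.toFinset.card = Nat.card P := (Set.ncard_eq_toFinset_card _ _).symm

theorem ne_conj (hx : ¬ Commute x h) : x ≠ h * x * h⁻¹ := fun e => hx (eq_mul_inv_iff_mul_eq.1 e)

theorem not_commute_sq (ho : Odd (orderOf h)) (hx : ¬ Commute x h) : ¬ Commute x (h * h) := fun e =>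
  hx (commute_of_sq_of_odd ho e.symm).symm

theorem ne_conj_sq (ho : Odd (orderOf h)) (hx : ¬ Commute x h) : x ≠ h * (h * x * h⁻¹) * h⁻¹ := by
  simpa [mul_assoc] using ne_conj (not_commute_sq ho hx)

theorem ne_conj' (hx : ¬ Commute x h) : h * x * h⁻¹ ≠ h * (h * x * h⁻¹) * h⁻¹ := by simpa using ne_conj hx

theorem isConj_cj (g x : G) : IsConj x (g * x * g⁻¹) := isConj_iff.2 ⟨g, rfl⟩

/-- the conclusion of the fusion analysis -/
def HV (P : Subgroup G) : Prop :=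
  ∃ V ≤ P, Nat.card V = 4 ∧ ∀ x ∈ P, ∃ u v, ∀ y ∈ V, IsConj (x * y) u ∨ IsConj (x * y) v

theorem hv_of_comm (hP : IsPGroup 2 P) (hk : 2 * ncl P = Nat.card P) (hc : ∀ x ∈ P, ∀ y ∈ P, Commute x y)
    (ho : Odd (orderOf h)) (hn : h ∈ 𝐍(P)) (hh : h ∉ 𝐂(P)) : HV P := by
  classical
  have m : ∀ x ∈ P, h * x * h⁻¹ ∈ P := fun x hx => Transfer.conj_mem_of_mem_normalizer hn hx
  have h1 := mul_ncl_le (P := P) (n := 3) (fun y => 1 + if y ∈ P ⊓ 𝐂[h] then 2 else 0) fun x hx => by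
    by_cases e : Commute x h
    · exact ⟨{x}, by simp [hx, IsConj.refl, -isConj_iff], by simp [hx, mem_cent.2 e]⟩
    refine ⟨{x, h * x * h⁻¹, h * (h * x * h⁻¹) * h⁻¹}, by
      simp [hx, m, IsConj.refl, isConj_cj, (isConj_cj h x).trans (isConj_cj h _), -isConj_iff], ?_⟩
    rw [Finset.sum_insert (by simp only [Finset.mem_insert, Finset.mem_singleton, ne_conj e, ne_conj_sq ho e]; simp),
      Finset.sum_pair (ne_conj' e)]
    omega
  rw [Finset.sum_add_distrib, sum_ind inf_le_left, Finset.sum_const, card_toFinset, smul_eq_mul] at h1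
  have h2 := four_mul_le hP ho hn hh
  let φ : P →* G := MonoidHom.mk' (fun x => x.1⁻¹ * (h * x * h⁻¹)) fun a b => by
    have := (hc _ (P.inv_mem b.2) _ (P.mul_mem (P.inv_mem a.2) (m _ a.2))).eq
    calc _ = b.1⁻¹ * (a.1⁻¹ * (h * a * h⁻¹)) * (h * b * h⁻¹) := by simp [mul_assoc]
      _ = _ := by rw [this]; simp [mul_assoc]
  have hφ : ∀ x, φ x = x.1⁻¹ * (h * x * h⁻¹) := fun _ => rfl
  have h3 : ∀ x : P, φ x = 1 ↔ Commute x.1 h := fun x => by
    rw [hφ, inv_mul_eq_one, eq_mul_inv_iff_mul_eq]; rfl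
  have hV : φ.range ≤ P := by rintro _ ⟨x, rfl⟩; exact P.mul_mem (P.inv_mem x.2) (m _ x.2)
  have h4 : Nat.card φ.range = 4 := by
    have := Transfer.card_mul_relIndex (inf_le_left (a := P) (b := 𝐂[h]))
    rw [← index_ker, show φ.ker = (P ⊓ 𝐂[h]).subgroupOf P from ext fun x => by
      simp [h3, mem_subgroupOf, mem_cent], ← relIndex]
    refine Nat.eq_of_mul_eq_mul_left (Nat.card_pos (α := ↥(P ⊓ 𝐂[h]))) ?_
    omega
  have h5 : ∀ v ∈ φ.range, Commute v h → v = 1 := by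
    rintro _ ⟨x, rfl⟩ e
    exact (h3 x).2 (fix ho (Two.of_mem hP (hV ⟨x, rfl⟩)) (by rw [hφ]; group) e)
  have h6 : ∀ v ∈ φ.range, h * v * h⁻¹ ∈ φ.range := by
    rintro _ ⟨x, rfl⟩
    exact ⟨⟨_, m _ x.2⟩, by simp [hφ, mul_assoc]⟩
  obtain ⟨v, hv, v1⟩ := (bot_or_exists_ne_one φ.range).resolve_left fun e => by simp [e] at h4
  have e : ¬ Commute v h := fun a => v1 (h5 v hv a)
  refine ⟨_, hV, h4, fun x hx => ?_⟩
  have h7 : Injective fun w : φ.range => (⟨φ ⟨w.1, hV w.2⟩, _, rfl⟩ : φ.range) := fun a b e => by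
    have : φ (⟨a.1, hV a.2⟩ * ⟨b.1, hV b.2⟩⁻¹) = 1 := by rw [map_mul, map_inv, mul_inv_eq_one]; exact congrArg Subtype.val e
    exact Subtype.ext (mul_inv_eq_one.1 (h5 _ (mul_mem a.2 (inv_mem b.2)) ((h3 _).1 this)))
  obtain ⟨w, hw⟩ := Finite.surjective_of_injective h7 ⟨φ ⟨x, hx⟩, _, rfl⟩
  have h8 : Commute (x * w.1⁻¹) h := (h3 (⟨x, hx⟩ * ⟨w.1, hV w.2⟩⁻¹)).1 (by
    rw [map_mul, map_inv, mul_inv_eq_one]; exact (congrArg Subtype.val hw).symm)
  have h9 : ∀ u, IsConj (x * w.1⁻¹ * (h * u * h⁻¹)) (x * w.1⁻¹ * u) := fun u => by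
    refine (isConj_iff.2 ⟨h, ?_⟩).symm
    rw [← mul_assoc h, ← h8.eq]; group
  refine ⟨x * w.1⁻¹, x * w.1⁻¹ * v, fun y hy => ?_⟩
  rw [show x * y = x * w.1⁻¹ * (w * y) by group]
  rcases mem_four h4 hv (h6 v hv) (h6 _ (h6 v hv)) v1 (by simpa) (by simpa) (ne_conj e) (ne_conj_sq ho e) (ne_conj' e)
    (mul_mem w.2 hy) with a | a | a | a <;> rw [a]
  exacts [Or.inl (by rw [mul_one]), Or.inr (IsConj.refl _), Or.inr (h9 v), Or.inr ((h9 _).trans (h9 v))]

theorem ZC.not_norm (hz : ZC P z) (hP : IsPGroup 2 P) (hk : 2 * ncl P = Nat.card P) (z1 : z ≠ 1) {a b : G} (ha : a ∈ P)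
    (hb : b ∈ P) (hab : a * b * a⁻¹ = b * z) (ho : Odd (orderOf h)) (hn : h ∈ 𝐍(P)) (hh : h ∉ 𝐂(P))
    (hc : Commute z h) : False := by
  classical
  have m : ∀ x ∈ P, h * x * h⁻¹ ∈ P := fun x hx => Transfer.conj_mem_of_mem_normalizer hn hx
  have cz : ∀ x ∈ P, x ∉ P ⊓ 𝐂(P) → IsConj x (x * z) := fun x hx e => by
    by_contra a
    exact e ⟨hx, fun y hy => mul_inv_eq_iff_eq_mul.1 ((hz.conj y hy x hx).resolve_right fun e => a (isConj_iff.2 ⟨y, e⟩))⟩
  have tz : Two z := Two.of_mem hP hz.mem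
  have h1 := mul_ncl_le (P := P) (n := 6)
    (fun y => 1 + (if y ∈ P ⊓ 𝐂(P) then 5 else 0) + if y ∈ P ⊓ 𝐂[h] then 2 else 0) fun x hx => by
    by_cases e0 : x ∈ P ⊓ 𝐂(P)
    · exact ⟨{x}, by simp [hx, IsConj.refl, -isConj_iff], by rw [Finset.sum_singleton, if_pos e0]; omega⟩
    have c := cz x hx e0
    by_cases e : Commute x h
    · refine ⟨{x, x * z}, by simp [hx, mul_mem hx hz.mem, c, IsConj.refl, -isConj_iff], ?_⟩
      rw [Finset.sum_pair (by simpa), if_pos (c := x ∈ P ⊓ 𝐂[h]) ⟨hx, mem_cent.2 e⟩,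
        if_pos (c := x * z ∈ P ⊓ 𝐂[h]) ⟨mul_mem hx hz.mem, mem_cent.2 (e.mul_left hc)⟩]
      omega
    have k : ∀ u, h * (u * z) * h⁻¹ = h * u * h⁻¹ * z := fun u => by rw [← mul_assoc, mul_assoc _ z, hc.inv_right.eq, mul_assoc _ _ z]
    have n : ∀ {u g}, Odd (orderOf g) → Commute z g → ¬ Commute u g → g * u * g⁻¹ ≠ u * z ∧ u ≠ g * u * g⁻¹ * z :=
      fun h1 h2 h3 => have a := fun e => h3 (fix h1 tz e h2); ⟨a, fun e => a (by
        rw [eq_comm, ← eq_mul_inv_iff_mul_eq, inv_eq_of_mul_eq_one_right hz.sq] at e; exact e)⟩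
    have n1 := n ho hc e
    have n2 := n (g := h * h) (pow_two h ▸ odd_orderOf_pow ho 2) (hc.mul_right hc) (not_commute_sq ho e)
    have n3 := n (u := h * x * h⁻¹) ho hc fun a => e (by simpa [mul_assoc] using commute_conj h⁻¹ a)
    rw [show h * h * x * (h * h)⁻¹ = h * (h * x * h⁻¹) * h⁻¹ by group] at n2
    have n4 := ne_conj e
    have n5 := ne_conj_sq ho e
    have n6 := ne_conj' e
    have c1 := isConj_cj h x
    have c2 := c1.trans (isConj_cj h _)
    have c3 := c.trans (isConj_cj h _)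
    have c4 := c3.trans (isConj_cj h _)
    rw [k] at c3
    rw [k, k] at c4
    have m1 := m x hx
    have m2 := m _ m1
    generalize h * (h * x * h⁻¹) * h⁻¹ = x2 at *
    generalize h * x * h⁻¹ = x1 at *
    refine ⟨{x, x1, x2, x * z, x1 * z, x2 * z}, by simp [mul_mem, hz.mem, IsConj.refl, -isConj_iff, *], ?_⟩
    rw [Finset.sum_insert (by simp [*]), Finset.sum_insert (by simp [*]), Finset.sum_insert (by simp [*]),
      Finset.sum_insert (by simp [*]), Finset.sum_pair (by simpa)]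
    omega
  rw [Finset.sum_add_distrib, Finset.sum_add_distrib, sum_ind inf_le_left, sum_ind inf_le_left, Finset.sum_const,
    card_toFinset, smul_eq_mul] at h1
  have h2 := four_mul_le hP ho hn hh
  have h0 : ¬ Commute b a := fun e => z1 (by rwa [← e.eq, mul_inv_cancel_right, left_eq_mul] at hab)
  have h3 := two_mul_le (H := P ⊓ 𝐂(P)) (K := P ⊓ 𝐂[a]) ⟨fun y hy => ⟨hy.1, mem_cent.2 (hy.2 a ha).symm⟩,
    fun e => h0 ((e ⟨ha, mem_cent.2 (Commute.refl a)⟩).2 b hb)⟩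
  have h4 := two_mul_le (H := P ⊓ 𝐂[a]) (K := P) ⟨inf_le_left, fun e => h0 (mem_cent.1 (e hb).2)⟩
  have := Nat.card_pos (α := P)
  omega

theorem ZC.exists_odd (hz : ZC P z) (hP : SylowIn 2 P ⊤) (hc : z ∈ center G) (hn : ¬ PNil 2 (⊤ : Subgroup G)) :
    ∃ h, Odd (orderOf h) ∧ h ∈ 𝐍(P) ∧ h ∉ 𝐂(P) := by
  by_contra! h0
  obtain ⟨Q, hQ, q, hq, q2, g, -, ⟨k, hk⟩, h1, h2⟩ := hP.exists_of_not_pnil hn
  refine h2 fun x hx => ?_
  have c : ∀ g, g * z * g⁻¹ = z := fun g => mul_inv_eq_iff_eq_mul.2 (mem_center_iff.1 hc g)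
  have k : ∀ g u, g * (u * z) * g⁻¹ = g * u * g⁻¹ * z := fun g u => by
    conv_rhs => rw [← c g]
    group
  have k2 : ∀ u, u * z * z = u := fun u => by rw [mul_assoc, hz.sq, mul_one]
  let D : Subgroup G :=
    { carrier := {m | m * x * m⁻¹ = x ∨ m * x * m⁻¹ = x * z}
      one_mem' := by simp
      mul_mem' := fun {a b} ha hb => by
        rw [Set.mem_ofPred_eq, show a * b * x * (a * b)⁻¹ = a * (b * x * b⁻¹) * a⁻¹ by group]
        rcases hb with hb | hb <;> rcases ha with ha | ha <;> simp [ha, hb, k, k2]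
      inv_mem' := fun {a} ha => ha.imp (fun e => by conv_lhs => rw [← e]
                                                    group) fun e => by
        have : a⁻¹ * (a * x * a⁻¹ * z) * a⁻¹⁻¹ = x * z := by rw [k]; group
        rwa [e, k2] at this }
  obtain ⟨n, ⟨-, hn⟩, d, ⟨-, hd⟩, e⟩ := hP.burnside_fusion (D := D) (mem_top g) (fun u hu => hz.conj u hu x (hQ hx))
    fun u hu => Transfer.mem_cj.2 ((hz.conj u hu _ (hQ (Transfer.conj_mem_of_mem_normalizer h1 hx))).imp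
      (fun e => by rw [show g⁻¹ * u * g * x * (g⁻¹ * u * g)⁻¹ = g⁻¹ * (u * (g * x * g⁻¹) * u⁻¹) * g⁻¹⁻¹ by group, e]; group)
      fun e => by rw [show g⁻¹ * u * g * x * (g⁻¹ * u * g)⁻¹ = g⁻¹ * (u * (g * x * g⁻¹) * u⁻¹) * g⁻¹⁻¹ by group, e, k]; group)
  have h3 : n ∈ D := by
    obtain ⟨a, ha, b, hb, ta, ob, rfl⟩ := exists_two_odd n
    refine D.mul_mem (hz.conj a ?_ x (hQ hx)) (Or.inl (mul_inv_eq_iff_eq_mul.2 (h0 b ob (zpowers_le.2 hn hb) x (hQ hx)).symm))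
    exact hP.le_of_normalizes ta.isPGroup le_top (zpowers_le.2 (zpowers_le.2 hn ha)) (mem_zpowers a)
  have h4 : g ∈ D := by simpa [e] using D.mul_mem h3 (D.inv_mem hd)
  exact (mul_inv_eq_iff_eq_mul.1 (ABG.fix_of_odd (((hq.odd_of_ne_two q2).pow).of_dvd_nat (orderOf_dvd_of_pow_eq_one hk))
    (c g) hz.sq h4)).symm

theorem ZC.hv (hz : ZC P z) (hP : SylowIn 2 P ⊤) (z1 : z ≠ 1) {a b : G} (ha : a ∈ P) (hb : b ∈ P)
    (hab : a * b * a⁻¹ = b * z) (hi : ¬ IsIsolatedInvolution z) : HV P := by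
  have z2 : orderOf z = 2 := orderOf_eq_prime (by rw [pow_two, hz.sq]) z1
  have zc : z ∈ 𝐂(P) := fun y hy => mul_inv_eq_iff_eq_mul.1 (hz.comm y hy)
  have hPz : SylowIn 2 P 𝐂[z] := hP.mono (le_cent_iff.2 zc) le_top
  have k2 : ∀ u, u * z * z = u := fun u => by rw [mul_assoc, hz.sq, mul_one]
  have h1 : ∀ g, g * z * g⁻¹ ∈ 𝐂(P) → g * z * g⁻¹ = z := fun g hg => by
    obtain ⟨n, ⟨-, hn⟩, e⟩ := hP.exists_normalizer_conj_eq (mem_top g) zc hg
    have := hz.conj _ (Transfer.conj_mem_of_mem_normalizer hn ha) _ (Transfer.conj_mem_of_mem_normalizer hn hb)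
    rw [show n * a * n⁻¹ * (n * b * n⁻¹) * (n * a * n⁻¹)⁻¹ = n * b * n⁻¹ * (n * z * n⁻¹) by
      rw [← inv_mul_eq_iff_eq_mul.2 hab]; group] at this
    rw [← e]
    exact mul_left_cancel (this.resolve_left (by simpa))
  obtain ⟨g0, h2, h3⟩ : ∃ g, g * z * g⁻¹ ∈ P ∧ g * z * g⁻¹ ≠ z := by
    obtain ⟨S, rfl⟩ := hP.exists_sylow_top
    by_contra! e
    exact hi (isolated_of_sylow S z2 e)
  obtain ⟨u, hu, h4⟩ : ∃ u ∈ P, ¬ Commute u (g0 * z * g0⁻¹) := by
    by_contra! e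
    exact h3 (h1 g0 e)
  have h5 : (P ⊓ 𝐂[g0 * z * g0⁻¹]).relIndex P = 2 := ABG.relIndex_eq_two_of hu (fun e => h4 (mem_cent.1 e.2)) fun n hn => by
    have e := (hz.conj u hu _ h2).resolve_left fun e => h4 (mul_inv_eq_iff_eq_mul.1 e)
    refine (hz.conj n hn _ h2).imp (fun e => ⟨hn, mem_cent.2 (mul_inv_eq_iff_eq_mul.1 e)⟩) fun e' =>
      ⟨mul_mem hn hu, mem_cent.2 (mul_inv_eq_iff_eq_mul.1 ?_)⟩
    calc _ = n * (u * (g0 * z * g0⁻¹) * u⁻¹) * n⁻¹ := by group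
      _ = n * (g0 * z * g0⁻¹) * n⁻¹ * (n * z * n⁻¹) := by rw [e]; group
      _ = _ := by rw [e', hz.comm n hn, k2]
  obtain ⟨c, hc, h6⟩ := hPz.exists_cj_le (Q := Transfer.cj g0⁻¹ (P ⊓ 𝐂[g0 * z * g0⁻¹]))
    (Transfer.isPGroup_cj _ hP.isPGroup.to_inf_left) (Transfer.cj_le_iff.2 fun y hy => mem_cent.2 (by
      simpa [mul_assoc] using commute_conj g0⁻¹ (mem_cent.1 hy.2)))
  rw [← Transfer.cj_mul] at h6
  have h7 : c * g0⁻¹ * (g0 * z * g0⁻¹) * (c * g0⁻¹)⁻¹ = z := by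
    conv_rhs => rw [← mul_inv_eq_iff_eq_mul.2 (mem_cent.1 hc).eq]
    group
  generalize c * g0⁻¹ = g at h6 h7
  generalize g0 * z * g0⁻¹ = t at *
  -- `B = C_P(t)^g`, `s = z^g`
  have hB : (Transfer.cj g (P ⊓ 𝐂[t])).relIndex P = 2 := by
    have e1 := Transfer.card_mul_relIndex h6
    have e2 := Transfer.card_mul_relIndex (inf_le_left (a := P) (b := 𝐂[t]))
    rw [Transfer.card_cj, ← e2, h5] at e1
    exact Nat.eq_of_mul_eq_mul_left Nat.card_pos e1
  have zB : z ∈ Transfer.cj g (P ⊓ 𝐂[t]) := h7 ▸ Transfer.conj_mem_cj.2 ⟨h2, mem_cent.2 (Commute.refl t)⟩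
  have sB : g * z * g⁻¹ ∈ Transfer.cj g (P ⊓ 𝐂[t]) := Transfer.conj_mem_cj.2 ⟨hz.mem, mem_cent.2 (zc t h2).symm⟩
  have sz : g * z * g⁻¹ ≠ z := fun e => h3 (by simpa using h7.trans e.symm)
  have sc : ∀ y ∈ Transfer.cj g (P ⊓ 𝐂[t]), Commute y (g * z * g⁻¹) := fun y hy => by
    simpa [mul_assoc] using commute_conj g (show Commute _ z from zc _ (Transfer.mem_cj.1 hy).1)
  have hτ : ∀ y ∈ Transfer.cj g (P ⊓ 𝐂[t]), g * u * g⁻¹ * y * (g * u * g⁻¹)⁻¹ = y ∨
      g * u * g⁻¹ * y * (g * u * g⁻¹)⁻¹ = y * (g * z * g⁻¹) := fun y hy =>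
    (hz.conj u hu _ (Transfer.mem_cj.1 hy).1).imp
      (fun e => by rw [show g * u * g⁻¹ * y * (g * u * g⁻¹)⁻¹ = g * (u * (g⁻¹ * y * g) * u⁻¹) * g⁻¹ by group, e]; group)
      fun e => by rw [show g * u * g⁻¹ * y * (g * u * g⁻¹)⁻¹ = g * (u * (g⁻¹ * y * g) * u⁻¹) * g⁻¹ by group, e]; group
  have τz := (hτ z zB).resolve_left fun e => h4 (by
    rw [← h7] at e; simpa [mul_assoc] using commute_conj g⁻¹ (show Commute _ _ from mul_inv_eq_iff_eq_mul.1 e))
  have τs : g * u * g⁻¹ * (g * z * g⁻¹) * (g * u * g⁻¹)⁻¹ = g * z * g⁻¹ := by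
    conv_rhs => rw [← hz.comm u hu]
    group
  obtain ⟨σ, hσ, h8⟩ : ∃ σ ∈ P, ¬ Commute σ (g * z * g⁻¹) := by
    by_contra! e
    exact sz (h1 g e)
  have kl : Kl z (g * z * g⁻¹) := ⟨z2, by rw [orderOf_conj, z2], sz, (sc z zB).symm⟩
  generalize g * u * g⁻¹ = τ at *
  generalize g * z * g⁻¹ = s at *
  generalize Transfer.cj g (P ⊓ 𝐂[t]) = B at *
  have sP := h6 sB
  have σs := (hz.conj σ hσ s sP).resolve_left fun e => h8 (mul_inv_eq_iff_eq_mul.1 e)
  refine ⟨_, Kl.closure_le hz.mem sP, kl.card, fun x hx => ?_⟩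
  by_cases xB : x ∈ B
  · have key : ∀ c ∈ B, σ * c * σ⁻¹ = c → τ * c * τ⁻¹ = c → ∀ y ∈ closure ({z, s} : Set G),
        IsConj (c * y) c ∨ IsConj (c * y) (c * (z * s)) := fun c _ e1 e2 y hy => by
      rcases (kl.mem_iff y).1 hy with rfl | rfl | rfl | rfl
      · exact Or.inl (by rw [mul_one])
      · exact Or.inr (isConj_iff.2 ⟨τ, by rw [← τz]; conv_rhs => rw [← e2]
                                          group⟩)
      · exact Or.inr (isConj_iff.2 ⟨σ, by rw [← kl.comm.eq, ← σs]; conv_rhs => rw [← e1]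
                                          group⟩)
      · exact Or.inr (IsConj.refl _)
    obtain ⟨w, hw, e1, e2⟩ : ∃ w ∈ closure ({z, s} : Set G), σ * (x * w) * σ⁻¹ = x * w ∧ τ * (x * w) * τ⁻¹ = x * w := by
      have d : ∀ g a b : G, g * (a * b) * g⁻¹ = g * a * g⁻¹ * (g * b * g⁻¹) := fun _ _ _ => by group
      have σz := hz.comm σ hσ
      have k3 := mul_self_of_two kl.hb
      have k4 := kl.comm.eq
      rcases hz.conj σ hσ x hx with e1 | e1 <;> rcases hτ x xB with e2 | e2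
      · exact ⟨1, one_mem _, by simpa using e1, by simpa using e2⟩
      · exact ⟨z, Kl.mem_left _ _, by rw [d, e1, σz], by rw [d, e2, τz, mul_assoc, kl.b_ab]⟩
      · exact ⟨s, Kl.mem_right _ _, by rw [d, e1, σs, k4, mul_assoc, kl.a_ab], by rw [d, e2, τs]⟩
      · exact ⟨z * s, mul_mem (Kl.mem_left _ _) (Kl.mem_right _ _), by rw [d, d, e1, σz, σs, ← mul_assoc, k2, k4],
          by rw [d, d, e2, τz, τs, mul_assoc z, k3, mul_one, mul_assoc, k4]⟩
    refine ⟨x * w, x * w * (z * s), fun y hy => ?_⟩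
    simpa [mul_assoc] using key _ (mul_mem xB (Kl.closure_le zB sB hw)) e1 e2 _ (mul_mem (inv_mem hw) hy)
  · have h9 : s * x * s⁻¹ = x * z := (hz.conj s sP x hx).resolve_left fun e => h8 (by
      simpa using (show Commute x s from (mul_inv_eq_iff_eq_mul.1 e).symm).inv_left.mul_left
        (sc _ ((ABG.mul_mem_iff_of_relIndex_two hB hx hσ).2 (iff_of_false xB fun a => h8 (sc σ a)))))
    refine ⟨x, x * s, fun y hy => ?_⟩
    rcases (kl.mem_iff y).1 hy with rfl | rfl | rfl | rfl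
    · exact Or.inl (by rw [mul_one])
    · exact Or.inl (isConj_iff.2 ⟨s, h9⟩).symm
    · exact Or.inr (IsConj.refl _)
    · exact Or.inr (isConj_iff.2 ⟨s, by rw [← mul_assoc x, ← h9]; group⟩).symm

theorem hv (hP : SylowIn 2 P ⊤) (hO : pPrimeCore 2 G = ⊥) (hk : 2 * ncl P = Nat.card P) : HV P ∧ ¬ IsPGroup 2 G := by
  obtain ⟨z, hz, h1⟩ := exists_zc (card_comm_le hP.isPGroup hk)
  have h2 : ¬ IsPGroup 2 G := fun e => by
    obtain rfl : P = ⊤ := (hP.eq_of_le (e.to_subgroup ⊤) le_top le_rfl).symm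
    exact hz.lt.ne' (hk.trans card_top)
  have h3 : ¬ PNil 2 (⊤ : Subgroup G) := fun e => h2 ((isPGroup_of_pnil hO e).of_equiv topEquiv)
  refine ⟨?_, h2⟩
  rcases h1 with rfl | ⟨z1, a, ha, b, hb, hab⟩
  · obtain ⟨h, h4, h5, h6⟩ := hz.exists_odd hP (one_mem _) h3
    exact hv_of_comm hP.isPGroup hk (fun x hx y hy => mul_inv_eq_iff_eq_mul.1 (by simpa using hz.conj x hx y hy)) h4 h5 h6
  refine hz.hv hP z1 ha hb hab fun hi => ?_
  have hc := Block.z_star_center hO hi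
  obtain ⟨h, h4, h5, h6⟩ := hz.exists_odd hP hc h3
  exact hz.not_norm hP.isPGroup hk z1 ha hb hab h4 h5 h6 (mem_center_iff.1 hc h).symm

/-- a normal subgroup whose centralizer meets a subgroup containing `G'` trivially embeds in `G/Z(G)` with trivial centralizer -/
theorem quot_center {K L : Subgroup G} [K.Normal] [L.Normal] (hK : commutator G ≤ K) (hL : L ≤ K) (hC : 𝐂(L) ⊓ K = ⊥) :
    𝐂(L.map (QuotientGroup.mk' (center G))) = ⊥ ∧ Nonempty (L.map (QuotientGroup.mk' (center G)) ≃* L) := by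
  have h1 : center G ⊓ K = ⊥ := eq_bot_iff.2 (hC ▸ inf_le_inf_right _ (center_le_centralizer _))
  have h2 : 𝐂(L) ≤ center G := by
    rw [← centralizer_univ, ← coe_top, ← comm_eq_bot_iff, eq_bot_iff, ← hC]
    exact le_inf (commutator_le_left _ _) ((commutator_mono le_top le_rfl).trans hK)
  refine ⟨(eq_bot_iff_forall _).2 fun c hc => ?_, ⟨?_⟩⟩
  · obtain ⟨c, rfl⟩ := QuotientGroup.mk'_surjective _ c
    refine (QuotientGroup.eq_one_iff c).2 (h2 fun y hy => ?_)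
    have h3 : y⁻¹ * (c * y * c⁻¹) ∈ center G ⊓ K := ⟨(QuotientGroup.eq_one_iff _).1 (by
      have := hc _ (mem_map_of_mem _ hy)
      simp only [QuotientGroup.mk'_apply] at this
      simp [← this]), hL (L.mul_mem (L.inv_mem hy) (Normal.conj_mem ‹_› y hy c))⟩
    rw [h1, mem_bot, inv_mul_eq_one, eq_mul_inv_iff_mul_eq] at h3
    exact h3
  · refine (MulEquiv.ofBijective ((QuotientGroup.mk' (center G)).subgroupMap L) ⟨?_, MonoidHom.subgroupMap_surjective _ _⟩).symm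
    rw [injective_iff_map_eq_one]
    intro a ha
    exact Subtype.ext ((eq_bot_iff_forall _).1 h1 a ⟨(QuotientGroup.eq_one_iff _).1 (congrArg Subtype.val ha), hL a.2⟩)

theorem a4_or_s4 {L : Subgroup G} [L.Normal] (hC : 𝐂(L) = ⊥) (e : L ≃* alternatingGroup (Fin 4)) :
    Nonempty (G ≃* alternatingGroup (Fin 4)) ∨ Nonempty (G ≃* Equiv.Perm (Fin 4)) := by
  let e' : MulAut L ≃* Equiv.Perm (Fin 4) := (MulAut.congr e).trans (MulEquiv.ofBijective _
    (Linear.conjNormal_alt_bijective (by simp) (by simp))).symm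
  let f : G →* Equiv.Perm (Fin 4) := e'.toMonoidHom.comp MulAut.conjNormal
  have hf : Injective f := e'.injective.comp ((injective_iff_map_eq_one (MulAut.conjNormal : G →* MulAut L)).2 fun g hg =>
    (eq_bot_iff_forall _).1 hC g fun y hy => by
      have := congrArg (fun φ : MulAut L => (φ ⟨y, hy⟩).1) hg
      exact (mul_inv_eq_iff_eq_mul.1 this).symm)
  have h1 : 12 ∣ Nat.card G := by
    have := L.card_subgroup_dvd_card
    rwa [Nat.card_congr e.toEquiv, nat_card_alternatingGroup, Nat.card_eq_fintype_card (α := Fin 4)] at this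
  have h2 : Nat.card G ∣ 24 := by simpa [Fintype.card_perm, Nat.factorial] using card_dvd_of_injective f hf
  obtain ⟨k, hk⟩ := h1
  rw [hk, show 24 = 12 * 2 from rfl, Nat.mul_dvd_mul_iff_left (by simp), Nat.dvd_prime Nat.prime_two] at h2
  exact h2.imp (fun a => Linear.nonempty_equiv_alternating_of_injective f hf (by rw [hk, a]; rfl))
    fun a => Linear.nonempty_equiv_perm_of_injective f hf (by rw [hk, a]; rfl)

theorem main (P : Sylow 2 G) (hO : pPrimeCore 2 G = ⊥) (hk : 2 * ncl P.1 = Nat.card P.1) :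
    Nonempty (G ⧸ center G ≃* alternatingGroup (Fin 4)) ∨ Nonempty (G ⧸ center G ≃* Equiv.Perm (Fin 4)) ∨
    ∃ S : Subgroup (G ⧸ center G), S.Normal ∧ IsSimpleGroup S ∧ ¬ IsMulCommutative S ∧ 𝐂(S) = ⊥ ∧ Gold.IsL2o S := by
  obtain ⟨⟨V, h1, h2, h3⟩, h4⟩ := hv (sylowIn_top P) hO hk
  obtain ⟨K, hK, h5, h6, h7⟩ := exists_normal_inf_eq P h1 (focal h1 h2 hk h3)
  have h8 : SylowIn 2 V K := by simpa [inf_comm, h5] using Transfer.sylowIn_inf_normal P K
  have h9 : ∀ L : Subgroup K, ¬ 8 ∣ Nat.card L := fun L e => by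
    have := (Nat.prime_two.pow_dvd_iff_le_factorization (k := 3) Nat.card_pos.ne').1 (e.trans L.card_subgroup_dvd_card)
    have := Nat.pow_le_pow_right two_pos this
    rw [← h8.card_eq_pow, h2] at this
    omega
  have hD : DC2 K := Exc.dc2_of_card_four (S := V.subgroupOf K) (h8.coe_toSylow ▸ sylowIn_top _)
    (by rw [Nat.card_congr (subgroupOfEquivOfLe h8.le).toEquiv, h2])
  have hO' : pPrimeCore 2 K = ⊥ := pPrimeCore_eq_bot_of_normal hO K
  have hC : ∀ L : Subgroup K, 𝐂(L) = ⊥ → 𝐂(L.map K.subtype) ⊓ K = ⊥ := fun L e => (eq_bot_iff_forall _).2 fun c hc =>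
    congrArg Subtype.val ((eq_bot_iff_forall _).1 e ⟨c, hc.2⟩ fun y hy => Subtype.ext (hc.1 _ (mem_map_of_mem _ hy)))
  by_cases hE : layer K = ⊥
  · obtain ⟨E, -, e1, ⟨e⟩, rfl | ⟨-, ⟨e'⟩⟩⟩ := hD.str_solv hO' hE fun e => h4 (by
      obtain ⟨k, e1⟩ := e.exists_card_eq
      obtain ⟨l, e2⟩ := P.2.index (V.subgroupOf P)
      exact .of_card (n := k + l) (by rw [← K.card_mul_index, h6, e1, pow_add, ← e2, relIndex]))
    · have := hC _ e1
      rw [← MonoidHom.range_eq_map, range_subtype] at this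
      obtain ⟨h10, ⟨e'⟩⟩ := quot_center h7 le_rfl this
      have := Normal.map hK _ (QuotientGroup.mk'_surjective (center G))
      exact or_assoc.1 (Or.inl (a4_or_s4 h10 (e'.trans (topEquiv.symm.trans e))))
    · exact absurd (by rw [card_top, Nat.card_congr e'.toEquiv, Nat.card_perm]; simp [Nat.factorial]) (h9 ⊤)
  have : (layer K).Characteristic := Layer.layer_characteristic
  obtain ⟨h10, ⟨e⟩⟩ := quot_center (L := (layer K).map K.subtype) h7 (map_subtype_le _) (hC _ (hD.known_layer hO' hE).2.2)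
  replace e := e.trans ((layer K).equivMapOfInjective _ K.subtype_injective).symm
  obtain ⟨h11, h12, -⟩ := hD.core_free_ns hO' hE
  obtain ⟨F, _, _, h13, h14, ⟨e'⟩⟩ := Gold.l2o_of_known (hD.known_layer hO' hE).1 (h9 _)
  exact Or.inr (Or.inr ⟨_, Normal.map inferInstance _ (QuotientGroup.mk'_surjective _), e.isSimpleGroup,
    fun ⟨⟨a⟩⟩ => h12 ⟨⟨fun x y => e.symm.injective (by rw [map_mul, map_mul, a])⟩⟩, h10, F, _, _, h13, h14, ⟨e.trans e'⟩⟩)

end Cfsg.Lib.GW.Half
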