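import Cfsg.Agent.Lib.GW.CycN

/-!
# Groups with a partition, I: automorphisms with zero norm
-/

set_option autoImplicit false
set_option linter.unusedSectionVars false

namespace Cfsg.Lib.GW

open Subgroup Cfsg.Lib.Core Cfsg.Lib.BG1 Cfsg.Lib.Invol Function
open Cfsg.Lib.Amalg hiding le_cent_symm op_top

theorem mul_pow_mul_inv_mem {G : Type*} [Group G] [Finite G] {Q : Subgroup G} {q e : G} (he : e ∈ 𝐍(Q)) (hq : q ∈ Q) (i : ℕ) :
    (q * e) ^ i * (e ^ i)⁻¹ ∈ Q := by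
  induction i with
  | zero => simp
  | succ i ih =>
    have := mul_mem ih (conj_mem_norm (pow_mem he i) hq)
    rwa [show (q * e) ^ i * (e ^ i)⁻¹ * (e ^ i * q * (e ^ i)⁻¹) = (q * e) ^ (i + 1) * (e ^ (i + 1))⁻¹ by
      rw [pow_succ, pow_succ']; group] at this

section Abs
variable {W : Type*} [CommGroup W] [Finite W] {r : ℕ}

/-- the norm map `1 + a + ... + a^(r-1)` -/
def nm (r : ℕ) (a : MulAut W) : W →* W :=
  MonoidHom.mk' (fun v => ∏ i ∈ Finset.range r, (a ^ i) v) fun _ _ => by simp [Finset.prod_mul_distrib]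

theorem nm_apply (a : MulAut W) (v : W) : nm r a v = ∏ i ∈ Finset.range r, (a ^ i) v := rfl

theorem pow_eq_one_of_nm {a : MulAut W} (h : ∀ v, nm r a v = 1) : a ^ r = 1 := by
  ext v
  have h1 := (Finset.prod_range_succ (fun i => (a ^ i) v) r).symm.trans (Finset.prod_range_succ' _ r)
  simp only [pow_succ, MulAut.mul_apply] at h1
  rw [← nm_apply, ← nm_apply, h, h] at h1
  simpa using h1

theorem eq_one_of_nm {Q : Subgroup (MulAut W)} {e : MulAut W} (he : e ∈ 𝐍(Q)) (hr : r.Prime)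
    (h : ∀ q ∈ Q, ∀ v, nm r (q * e) v = 1) (hf : ∀ v, (∀ q ∈ Q, q v = v) → v = 1)
    (hc : (Nat.card Q).Coprime (Nat.card W)) (v : W) : v = 1 := by
  have := Fintype.ofFinite Q
  have h2 : ∀ w, ∏ q : Q, q.1 w = 1 := fun w => hf _ fun a ha => by
    rw [map_prod]
    exact Fintype.prod_equiv (Equiv.mulLeft ⟨a, ha⟩) _ _ fun _ => rfl
  have h3 : ∀ i, 0 < i → i < r → ∏ q : Q, ((q.1 * e) ^ i) v = 1 := fun i h4 h5 => by
    obtain ⟨k, -, hk⟩ := Nat.exists_mul_mod_eq_one_of_coprime ((Nat.coprime_of_lt_prime h4.ne' h5 hr).symm) hr.one_lt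
    have h6 : ∀ q ∈ Q, ((q * e) ^ i) ^ k = q * e := fun q hq => by
      rw [← pow_mul, pow_eq_pow_mod _ (pow_eq_one_of_nm (h q hq)), hk, pow_one]
    rw [← h2 ((e ^ i) v)]
    refine Fintype.prod_bijective (fun q : Q => (⟨_, mul_pow_mul_inv_mem he q.2 i⟩ : Q)) (Finite.injective_iff_bijective.1 fun a b hab => ?_)
      _ _ fun q => by simp
    exact Subtype.ext (mul_right_cancel ((h6 a a.2).symm.trans
      (by rw [mul_right_cancel (congrArg Subtype.val hab), h6 b b.2])))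
  have h4 : ∏ q : Q, nm r (q.1 * e) v = 1 := Finset.prod_eq_one fun q _ => h q q.2 v
  simp only [nm_apply] at h4
  rw [Finset.prod_comm, Finset.prod_eq_single_of_mem 0 (Finset.mem_range.2 hr.pos) fun i a b =>
    h3 i (Nat.pos_of_ne_zero b) (Finset.mem_range.1 a)] at h4
  simp only [pow_zero, MulAut.one_apply, Finset.prod_const, Finset.card_univ, ← Nat.card_eq_fintype_card] at h4
  exact orderOf_eq_one_iff.1 (Nat.eq_one_of_dvd_coprimes hc (orderOf_dvd_of_pow_eq_one h4) (orderOf_dvd_natCard v))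

theorem range_not_dvd {M : Type*} [Group M] [Finite M] (φ : M →* MulAut W) [Nontrivial W] (hr : r.Prime)
    (hW : IsPGroup r W) (irr : ∀ U : Subgroup W, (∀ m, ∀ v ∈ U, φ m v ∈ U) → U = ⊥ ∨ U = ⊤) {X : Subgroup M} [X.Normal]
    (hX : ¬ r ∣ Nat.card (X.map φ)) (h0 : X = ⊥ ∨ ∃ x, ∀ k ∈ X, k * x ∉ X ∧ r ∣ orderOf (k * x))
    (h1 : ∀ m ∉ X, r ∣ orderOf m → ∀ v, nm r (φ m) v = 1)
    (h2 : ∀ m ∉ X, ¬ r ∣ orderOf m → ∀ v, φ m v = v → v = 1) : X ≤ φ.ker ∧ ¬ r ∣ Nat.card φ.range := by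
  have := Fact.mk hr
  obtain ⟨v₀, hv⟩ := exists_ne (1 : W)
  have h3 : ∀ Q : Subgroup (MulAut W), φ.range ≤ 𝐍(Q) → Q ≠ ⊥ → ∀ v, (∀ q ∈ Q, q v = v) → v = 1 := fun Q a b v c => by
    let U : Subgroup W := ⨅ q ∈ Q, (q : MulAut W).toMonoidHom.eqLocus (MonoidHom.id W)
    have d : ∀ v, v ∈ U ↔ ∀ q ∈ Q, q v = v := fun v => by simp [U, mem_iInf]; rfl
    rcases irr U (fun m v e => (d _).2 fun q hq => by
      simpa using congrArg (φ m) ((d v).1 e _ (conj_mem_norm (inv_mem (a ⟨m, rfl⟩)) hq))) with e | e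
    · exact (eq_bot_iff_forall _).1 e v ((d v).2 c)
    · exact absurd (eq_bot_iff.2 fun q hq => MulEquiv.ext fun v => (d v).1 (e ▸ mem_top v) q hq) b
  obtain ⟨n, hn⟩ := hW.exists_card_eq
  have h4 : X ≤ φ.ker := by_contra fun e => by
    obtain ⟨x, hx⟩ := h0.resolve_left fun a => e (a ▸ bot_le)
    have a : φ.range ≤ 𝐍(X.map φ) := by
      rw [MonoidHom.range_eq_map]; exact (map_mono le_normalizer_of_normal).trans (le_normalizer_map _)
    refine hv (eq_one_of_nm (a ⟨x, rfl⟩) hr ?_ (h3 _ a fun b => e ((Subgroup.map_eq_bot_iff _).1 b))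
      (hn ▸ ((hr.coprime_iff_not_dvd.2 hX).symm.pow_right n)) v₀)
    rintro _ ⟨k, hk, rfl⟩
    exact map_mul φ k x ▸ h1 _ (hx k hk).1 (hx k hk).2
  refine ⟨h4, fun h5 => ?_⟩
  obtain ⟨⟨_, x, rfl⟩, hx⟩ := exists_prime_orderOf_dvd_card' r h5
  replace hx : orderOf (φ x) = r := (orderOf_coe _).trans hx
  obtain ⟨Q, q, a1, a2, a3, a4, a5⟩ : ∃ (Q : Subgroup (MulAut W)) (q : ℕ), q.Prime ∧ IsPGroup q Q ∧ Q ≠ ⊥ ∧ Q ≤ φ.range ∧
      φ.range ≤ 𝐍(Q) := by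
    rcases (Nat.card φ.range).even_or_odd with a | a
    · obtain ⟨_, ⟨t, rfl⟩, ht⟩ := exists_two_mem_of_even a
      have b : ∀ v, φ t v = v⁻¹ := fun v => by
        obtain ⟨s, -, u, hu, b1, b2, rfl⟩ := exists_two_odd t
        have b3 : φ u = 1 := (Two.of_mem (isPGroup_zpowers_two ht) (MonoidHom.map_zpowers φ _ ▸ mem_map_of_mem φ hu)).eq_one
          (b2.of_dvd_nat (orderOf_map_dvd _ _))
        rw [map_mul, b3, mul_one] at ht ⊢
        have b4 : s ∉ X := fun e => ne_one_of_two ht (h4 e)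
        rw [eq_inv_iff_mul_eq_one]
        by_cases b5 : r ∣ orderOf s
        · obtain ⟨k, hk⟩ := b1
          obtain rfl := (Nat.prime_dvd_prime_iff_eq hr Nat.prime_two).1
            (hr.dvd_of_dvd_pow (b5.trans (orderOf_dvd_of_pow_eq_one hk)))
          simpa [nm_apply, Finset.prod_range_succ, mul_comm] using h1 s b4 b5 v
        · exact h2 s b4 b5 _ (by rw [map_mul, ← MulAut.mul_apply, mul_self_of_two ht, MulAut.one_apply, mul_comm])
      exact ⟨_, 2, Nat.prime_two, isPGroup_zpowers_two ht, mt zpowers_eq_bot.1 (ne_one_of_two ht),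
        zpowers_le.2 ⟨t, rfl⟩, fun g _ => mem_norm_of_comm (MulEquiv.ext fun v => by simp [b])⟩
    · obtain ⟨Q, b1, ⟨b2, b3⟩, b4⟩ := exists_minimal_le (fun Q => Q ≠ ⊥ ∧ φ.range ≤ 𝐍(Q)) (H := φ.range)
        ⟨fun e => by rw [e, card_bot] at h5; exact hr.one_lt.ne' (Nat.dvd_one.1 h5), le_normalizer⟩
      obtain ⟨q, b5, b6⟩ := elementary_of_min (solvable_of_odd (a.of_dvd_nat (card_dvd_of_le b1))) b2 b3
        fun U c1 c2 => or_iff_not_imp_left.2 fun c3 => b4 U ⟨c3, c2⟩ c1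
      exact ⟨Q, q, b5, isPGroup_of_forall fun y hy => ⟨1, by simpa using b6.2 y hy⟩, b2, b1, b3⟩
  by_cases a6 : q = r
  · subst a6
    obtain ⟨v, b1, b2⟩ := a2.exists_fixed_point_of_prime_dvd_card_of_fixed_point W
      (hW.card_eq_or_dvd.resolve_left Finite.one_lt_card.ne') (a := 1) fun g => map_one g.1
    exact b2 (h3 Q a5 a3 v fun g hg => b1 ⟨g, hg⟩).symm
  have := Fact.mk a1
  refine hv (eq_one_of_nm (a5 ⟨x, rfl⟩) hr (fun g hg => ?_) (h3 Q a5 a3) (card_top (G := W) ▸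
    IsPGroup.coprime_card_of_ne q r a6 _ ⊤ a2 (hW.to_subgroup ⊤)) v₀)
  obtain ⟨m, rfl⟩ := a4 hg
  have b : ∀ n, (m * x) ^ n ∈ φ.ker → r ∣ n := fun n hn => by
    have b1 := mul_pow_mul_inv_mem (a5 ⟨x, rfl⟩) hg n
    rw [← map_mul, ← map_pow, hn, one_mul, inv_mem_iff] at b1
    obtain ⟨k, hk⟩ := pow_eq_one_of_mem a2 b1
    rw [← pow_mul, ← orderOf_dvd_iff_pow_eq_one, hx] at hk
    exact ((Nat.coprime_primes hr a1).2 (Ne.symm a6)).pow_right k |>.dvd_of_dvd_mul_right hk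
  rw [← map_mul]
  exact h1 _ (fun e => hr.one_lt.ne' (Nat.dvd_one.1 (b 1 (by simpa using h4 e)))) (b _ (by simp))

end Abs

section Amb
variable {G : Type*} [Group G] [Finite G] {V M : Subgroup G} {r : ℕ}

/-- the action of `M ≤ N(V)` on `V` -/
def act (h : M ≤ 𝐍(V)) : M →* MulAut V := V.normalizerMonoidHom.comp (inclusion h)

theorem act_apply (h : M ≤ 𝐍(V)) (m : M) (v : V) : (act h m v : G) = m * v * (m : G)⁻¹ := rfl

theorem mem_ker_act (h : M ≤ 𝐍(V)) {m : M} : m ∈ (act h).ker ↔ (m : G) ∈ 𝐂(V) :=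
  ⟨fun e v hv => (mul_inv_eq_iff_eq_mul.1 (congrArg Subtype.val (MulEquiv.congr_fun e ⟨v, hv⟩))).symm,
    fun e => MulEquiv.ext fun v => Subtype.ext (mul_inv_eq_iff_eq_mul.2 (e v v.2).symm)⟩

open scoped IsMulCommutative

variable [IsMulCommutative V]

theorem mul_pow_eq_nm (h : M ≤ 𝐍(V)) (m : M) (v : V) (n : ℕ) : ((v : G) * m) ^ n = nm n (act h m) v * (m : G) ^ n := by
  induction n with
  | zero => simp [nm_apply]
  | succ n ih =>
    rw [pow_succ, ih, nm_apply, nm_apply, Finset.prod_range_succ, ← map_pow, coe_mul, act_apply, coe_pow, pow_succ]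
    group

theorem nm_eq_one (h : M ≤ 𝐍(V)) {m : M} {v : V} : nm r (act h m) v = 1 ↔ ((v : G) * m) ^ r = (m : G) ^ r := by
  rw [mul_pow_eq_nm h, mul_eq_right, OneMemClass.coe_eq_one]

theorem eq_bot_of_nm {R : Subgroup G} {e : G} (hr : r.Prime) (hR : R ≤ 𝐍(V)) (he : e ∈ 𝐍(V)) (heR : e ∈ 𝐍(R))
    (h : ∀ q ∈ R, ∀ v ∈ V, (v * (q * e)) ^ r = (q * e) ^ r) (hf : ∀ v ∈ V, v ∈ 𝐂(R) → v = 1)
    (hc : (Nat.card R).Coprime (Nat.card V)) : V = ⊥ := by
  refine eq_bot_iff.2 fun v hv => congrArg Subtype.val (eq_one_of_nm (Q := (R.subgroupOf 𝐍(V)).map (act le_rfl))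
    (e := act le_rfl ⟨e, he⟩) (le_normalizer_map _ (mem_map_of_mem _ (mem_normalizer_iff.2 fun q =>
      mem_normalizer_iff.1 heR q))) hr ?_ (fun v a => Subtype.ext (hf v v.2 fun q hq => mul_inv_eq_iff_eq_mul.1
        (congrArg Subtype.val (a _ (mem_map_of_mem _ (show ⟨q, hR hq⟩ ∈ R.subgroupOf _ from hq)))))) (hc.coprime_dvd_left
      ((card_map_dvd _ _).trans (card_comap_dvd_of_injective _ _ (subtype_injective _)))) ⟨v, hv⟩)
  rintro _ ⟨q, hq, rfl⟩ v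
  rw [← map_mul, nm_eq_one]
  exact h q hq v v.2

theorem not_dvd_relIndex (hr : r.Prime) (hV : IsPGroup r V) (h0 : V ≠ ⊥) (hM : M ≤ 𝐍(V))
    (irr : ∀ U ≤ V, M ≤ 𝐍(U) → U = ⊥ ∨ U = V) {K : Subgroup G} [K.Normal] (hK : ¬ r ∣ 𝐂(V).relIndex (K ⊓ M))
    (h3 : K = ⊥ ∨ ∃ x ∈ M, ∀ k ∈ K, k * x ∉ K ∧ r ∣ orderOf (k * x))
    (h1 : ∀ m ∈ M, m ∉ K → r ∣ orderOf m → ∀ v ∈ V, (v * m) ^ r = m ^ r)
    (h2 : ∀ m ∈ M, m ∉ K → ¬ r ∣ orderOf m → ∀ v ∈ V, Commute m v → v = 1) :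
    K ⊓ M ≤ 𝐂(V) ∧ ¬ r ∣ 𝐂(V).relIndex M := by
  have := (nontrivial_iff_ne_bot V).2 h0
  have hk : (act hM).ker = 𝐂(V).subgroupOf M := Subgroup.ext fun _ => mem_ker_act hM
  obtain ⟨a, b⟩ := range_not_dvd (act hM) hr hV (fun U hU => (irr (U.map V.subtype) (map_subtype_le U) fun m hm =>
      Transfer.mem_normalizer_of_cj_le (Transfer.cj_le_iff.2 (by
        rintro _ ⟨v, hv, rfl⟩; exact ⟨_, hU ⟨m, hm⟩ v hv, rfl⟩))).imp
      (fun e => (map_eq_bot_iff_of_injective _ V.subtype_injective).1 e) fun e =>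
        map_injective V.subtype_injective (e.trans (V.range_subtype.symm.trans (MonoidHom.range_eq_map _))))
    (X := K.subgroupOf M) (by
      rwa [← relIndex_ker, hk, ← inf_subgroupOf_right K, relIndex_subgroupOf inf_le_right])
    (h3.imp (fun e => by rw [e, bot_subgroupOf]) fun ⟨x, hx, e⟩ => ⟨⟨x, hx⟩, fun k hk => orderOf_coe (k * ⟨x, hx⟩) ▸ e k hk⟩)
    (fun m a b v => (nm_eq_one hM).2 (h1 m m.2 a (orderOf_coe m ▸ b) v v.2))
    fun m a b v c => Subtype.ext (h2 m m.2 a (orderOf_coe m ▸ b) v v.2 (mul_inv_eq_iff_eq_mul.1 (congrArg Subtype.val c)))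
  exact ⟨fun x hx => (mem_ker_act hM (m := ⟨x, hx.2⟩)).1 (a hx.1), by rwa [← index_ker, hk] at b⟩

end Amb

end Cfsg.Lib.GW
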